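import Cfsg.Agent.OddHalf.D5.SymLab.Final
import Cfsg.Agent.OddHalf.D5.SymEnd
import Cfsg.Agent.OddHalf.D5.Sym.Match

/-!
# ODD D5, `C_G(t) = ⟨t⟩ × S_n`, `n ≥ 9`: the end from the components of the centralizers of the transpositions
-/

set_option autoImplicit false
set_option linter.unusedSectionVars false

namespace Cfsg.Agent.OddHalf.D5.SymLab

open Subgroup Equiv Cfsg Cfsg.Agent.OddHalf.D3

variable {G : Type*} [Group G] {n : ℕ}

theorem fr_of_sp {t : G} {j : Perm (Fin n) →* G} (h : Sym.Sp t j) : Fr t j where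
  tt := h.tt
  inj := h.inj
  comm := h.comm
  cent := by
    intro g hg
    obtain ⟨z, a, hz, ha⟩ := h.cent g hg
    rcases hz with rfl | rfl
    · exact ⟨a, Or.inl (by rw [ha, one_mul])⟩
    · exact ⟨a, Or.inr ha⟩
  ne := h.ne

theorem exists_two [Finite G] (hn : 9 ≤ n) {t : G} {ι : (⊤ : Subgroup (Perm (Fin n))) →* G}
    (h : Spl t ⊤ ι)
    (hA : ∀ e : Perm (Fin n), e.IsSwap → ∃ J, Good t (Sym.jj ι) (Sym.jj ι e) e J)
    (hP : ∀ f : Perm (Fin n), f.IsSwap → PumpT t (Sym.jj ι) f) : ∃ K₁ : Subgroup G, SymEnd.Two t ι K₁ := by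
  have hcard : 9 ≤ Fintype.card (Fin n) := by rw [Fintype.card_fin]; exact hn
  have F := fr_of_sp (Sym.sp_of_spl h)
  set j := Sym.jj ι with hj
  have hji : ∀ a : (⊤ : Subgroup (Perm (Fin n))), ι a = j a.1 := fun a => rfl
  have S : Sys t j := ⟨F, hA, fun e f J he hf hef hJ =>
    hJ.noswap F hcard he hf hef (nonAb' hcard he) (hP f hf)⟩
  -- the first 3-cycle
  obtain ⟨q⟩ : Nonempty (Fin 5 ↪ Fin n) := ⟨Fin.castLEEmb (by omega)⟩
  set ρ₀ : Perm (Fin n) := Em q (c3 0 1 2) with hρ₀def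
  have hρ₀ : ρ₀.IsThreeCycle := Em_three q (three_c3 (by decide) (by decide) (by decide))
  set e : Perm (Fin n) := Em q (swap 3 4) with he
  have hes : e.IsSwap := ⟨q 3, q 4, q.injective.ne (by decide), Em_swap q 3 4⟩
  have hρe : Perm.Disjoint ρ₀ e := disj_Em q (by unfold c3 Perm.Disjoint; decide +kernel)
  obtain ⟨J, hJ⟩ := hA e hes
  obtain ⟨x₀, hx⟩ := hJ.exists_lift (F.comm e) hρ₀.sign hρe (three_cube hρ₀)
  have hx₀ : IsLift t j ρ₀ x₀ := ⟨e, J, hes, hρe, hJ, hx⟩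
  set R : Set G := {x | ∃ c, x = j c * x₀ * (j c)⁻¹} with hR
  refine ⟨_, SymEnd.Two.mk_of h le_top R ?_ ?_ ?_ ?_⟩
  · rintro _ ⟨c, rfl⟩ _ ⟨d, rfl⟩
    have h1 := S.cross hcard hρ₀ hx₀ c d
    rw [F.t_inv] at h1
    exact h1
  · rintro _ ⟨c, rfl⟩
    have h1 := (hx₀.conj F c).pr F
    rw [F.t_inv] at h1
    refine ⟨⟨c * ρ₀ * c⁻¹, mem_top _⟩, ?_, h1⟩
    show c * ρ₀ * c⁻¹ ∈ alternatingGroup (Fin n)
    have h3 : (c * ρ₀ * c⁻¹).IsThreeCycle := by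
      show (c * ρ₀ * c⁻¹).cycleType = {3}
      rw [Perm.cycleType_conj]; exact hρ₀
    exact h3.mem_alternatingGroup
  · intro a ha
    have h1 : IsConj ρ₀ (a : Perm (Fin n)) := Perm.isConj_iff_cycleType_eq.2 (hρ₀.trans ha.symm)
    obtain ⟨c, hc⟩ := isConj_iff.1 h1
    refine ⟨j c * x₀ * (j c)⁻¹, subset_closure ⟨c, rfl⟩, ?_⟩
    have h2 := (hx₀.conj F c).pr F
    rw [F.t_inv, hc] at h2
    exact h2
  · rintro σ _ ⟨c, rfl⟩
    refine subset_closure ⟨σ.1 * c, ?_⟩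
    rw [hji, map_mul]; group

/-- **END** -/
theorem end_false [Finite G] (hG : ∀ H : Subgroup G, H.index ≠ 2) (hn : 9 ≤ n) {t : G}
    {ι : (⊤ : Subgroup (Perm (Fin n))) →* G} (h : Spl t ⊤ ι)
    (hA : ∀ e : Perm (Fin n), e.IsSwap → ∃ J, Good t (Sym.jj ι) (Sym.jj ι e) e J)
    (hP : ∀ f : Perm (Fin n), f.IsSwap → PumpT t (Sym.jj ι) f) : False := by
  obtain ⟨K₁, H⟩ := exists_two hn h hA hP
  exact H.false h (by omega) le_top hG

end Cfsg.Agent.OddHalf.D5.SymLab
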