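import Cfsg.Agent.OddHalf.D5.SymLab.Lab

/-!
# The group `K₁` generated by the lifts of one label
-/

set_option autoImplicit false
set_option linter.unusedSectionVars false

namespace Cfsg.Agent.OddHalf.D5.SymLab

open Subgroup Equiv Cfsg Cfsg.Agent.OddHalf.D3 Cfsg.Agent.SignalizersComponents
open scoped commutatorElement

variable {G : Type*} [Group G] {α : Type*} [Fintype α] [DecidableEq α]
variable {t s : G} {j : Perm α →* G} {e f : Perm α} {J : Subgroup G}

theorem IsLift.conj (F : Fr t j) {ρ : Perm α} {x : G} (h : IsLift t j ρ x) (c : Perm α) :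
    IsLift t j (c * ρ * c⁻¹) (j c * x * (j c)⁻¹) := by
  obtain ⟨e, J, he, hρe, hJ, hx⟩ := h
  refine ⟨c * e * c⁻¹, cj (j c) J, ?_, hρe.conj c, ?_, hx.conj F c⟩
  · obtain ⟨a, b, hab, rfl⟩ := he
    exact ⟨c a, c b, fun h => hab (c.injective h), by
      rw [Equiv.mul_swap_eq_swap_mul, mul_inv_cancel_right]⟩
  · have h1 := hJ.conj F c
    have e1 : j (c * e * c⁻¹) = j c * j e * (j c)⁻¹ := by rw [map_mul, map_mul, map_inv]
    rw [e1]
    exact h1

theorem IsLift.pr (F : Fr t j) {ρ : Perm α} {x : G} (h : IsLift t j ρ x) : x * (t * x * t⁻¹) = j ρ := by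
  obtain ⟨e, J, he, hρe, hJ, hx⟩ := h
  exact hx.eq

theorem IsLift.comm (F : Fr t j) {ρ : Perm α} {x : G} (h : IsLift t j ρ x) :
    x * (t * x * t⁻¹) = (t * x * t⁻¹) * x := by
  obtain ⟨e, J, he, hρe, hJ, hx⟩ := h
  exact hJ.comm (F.comm e) hx.mem hx.mem

/-- a transposition disjoint from `ρ` commutes with the lift -/
theorem Sys.swap_comm [Finite G] (S : Sys t j) (hcard : 9 ≤ Fintype.card α) {ρ : Perm α}
    (hρ : ρ.IsThreeCycle) {x : G} (hx : IsLift t j ρ x) {h : Perm α} (hh : h.IsSwap)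
    (hρh : Perm.Disjoint ρ h) : j h * x = x * j h := by
  obtain ⟨M, hM⟩ := S.ex h hh
  obtain ⟨z, hz⟩ := hM.exists_lift (S.F.comm h) hρ.sign hρh (three_cube hρ)
  have h1 : z * j h = j h * z := hM.s_comm hz.mem
  rcases S.lift_eq hcard hρ ⟨h, M, hh, hρh, hM, hz⟩ hx with h2 | h2
  · rw [h2]; exact h1.symm
  · rw [h2]
    calc j h * (t * z * t⁻¹) = (j h * t) * z * t⁻¹ := by group
      _ = t * (j h * z) * t⁻¹ := by rw [← S.F.comm]; group
      _ = t * z * (j h * t⁻¹) := by rw [← h1]; group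
      _ = (t * z * t⁻¹) * j h := by rw [S.F.t_inv, ← S.F.comm]; group

/-- `C(ρ)` fixes the lifts -/
theorem Sys.stab [Finite G] (S : Sys t j) (hcard : 9 ≤ Fintype.card α) {ρ : Perm α}
    (hρ : ρ.IsThreeCycle) {x : G} (hx : IsLift t j ρ x) {c : Perm α} (hc : c * ρ = ρ * c) :
    j c * x = x * j c := by
  -- the centralizer of `x`
  let T : Subgroup (Perm α) := (centralizer ({x} : Set G)).comap j
  have hT : ∀ u, u ∈ T ↔ j u * x = x * j u := fun u => by
    show j u ∈ centralizer ({x} : Set G) ↔ _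
    exact mem_cs
  have hρT : ρ ∈ T := by
    rw [hT, ← hx.pr S.F]
    have h1 := hx.comm S.F
    rw [mul_assoc, ← h1]
  -- permutations disjoint from `ρ`
  have hdis : ∀ u : Perm α, Perm.Disjoint u ρ → u ∈ T := by
    intro u hu
    obtain ⟨v, hv⟩ := exists_off hu hu
    have h1 : v ∈ closure {σ : Perm (Off ρ ρ) | σ.IsSwap} := by rw [Perm.closure_isSwap]; exact mem_top _
    have h2 : closure {σ : Perm (Off ρ ρ) | σ.IsSwap} ≤ T.comap (offHom ρ ρ) := by
      rw [closure_le]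
      rintro w ⟨a, b, hab, rfl⟩
      show offHom ρ ρ (swap a b) ∈ T
      rw [hT]
      apply S.swap_comm hcard hρ hx
      · refine ⟨a.1, b.1, fun h => hab (Subtype.ext h), ?_⟩
        exact Perm.ofSubtype_swap_eq a b
      · exact (offHom_disj ρ ρ _).1.symm
    have h3 := h2 h1
    rw [← hv]
    exact h3
  -- move `c`
  obtain ⟨a, ha⟩ : ∃ a, ρ a ≠ a := by
    by_contra hcon
    push Not at hcon
    exact hρ.ne_one (Perm.ext hcon)
  have hsup := hρ.support_eq_iff_mem_support.2 (Perm.mem_support.2 ha)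
  have hfix : ∀ d : Perm α, d * ρ = ρ * d → d a = a → d ∈ T := by
    intro d hd hda
    apply hdis
    intro y
    by_cases hy : ρ y = y
    · right; exact hy
    · left
      have hy' : y ∈ ρ.support := Perm.mem_support.2 hy
      rw [hsup] at hy'
      have e1 : d (ρ a) = ρ a := by
        have := congrArg (fun u : Perm α => u a) hd
        simp only [Perm.mul_apply] at this
        rw [this, hda]
      have e2 : d (ρ (ρ a)) = ρ (ρ a) := by
        have := congrArg (fun u : Perm α => u (ρ a)) hd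
        simp only [Perm.mul_apply] at this
        rw [this, e1]
      simp only [Finset.mem_insert, Finset.mem_singleton] at hy'
      rcases hy' with rfl | rfl | rfl
      · exact hda
      · exact e1
      · exact e2
  have hca : c a ∈ ρ.support := by
    rw [Perm.mem_support]
    have := congrArg (fun u : Perm α => u a) hc
    simp only [Perm.mul_apply] at this
    rw [← this]
    exact fun h => ha (c.injective h)
  rw [hsup] at hca
  simp only [Finset.mem_insert, Finset.mem_singleton] at hca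
  have hcomm : Commute c ρ := hc
  rw [← hT]
  rcases hca with h1 | h1 | h1
  · exact hfix c hc h1
  · have h2 : ρ⁻¹ * c ∈ T := hfix _ ((Commute.refl ρ).inv_left.mul_left hcomm).eq (by
      rw [Perm.mul_apply, h1, ← Perm.mul_apply, inv_mul_cancel, Perm.one_apply])
    have := T.mul_mem hρT h2
    rwa [mul_inv_cancel_left] at this
  · have h2 : ρ⁻¹ * (ρ⁻¹ * c) ∈ T := hfix _
      ((Commute.refl ρ).inv_left.mul_left ((Commute.refl ρ).inv_left.mul_left hcomm)).eq (by
      rw [Perm.mul_apply, Perm.mul_apply, h1, ← Perm.mul_apply, ← Perm.mul_apply, ← Perm.mul_apply]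
      have e1 : ρ⁻¹ * (ρ⁻¹ * (ρ * ρ)) = 1 := by group
      first
        | rw [e1, Perm.one_apply]
        | (have e2 := congrArg (fun u : Perm α => u a) e1
           simpa using e2))
    have := T.mul_mem hρT (T.mul_mem hρT h2)
    rwa [mul_inv_cancel_left, mul_inv_cancel_left] at this

/-- 3-cycles outside of `e` are conjugate in `Alt (Ω - e)` -/
theorem conj_out (hcard : 9 ≤ Fintype.card α) (he : e.IsSwap) {ρ σ : Perm α} (hρ : ρ.IsThreeCycle)
    (hσ : σ.IsThreeCycle) (hρe : Perm.Disjoint ρ e) (hσe : Perm.Disjoint σ e) :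
    ∃ a, Perm.sign a = 1 ∧ Perm.Disjoint a e ∧ a * ρ * a⁻¹ = σ := by
  obtain ⟨u, hu⟩ := exists_off hρe hρe
  obtain ⟨v, hv⟩ := exists_off hσe hσe
  have hu3 : u.IsThreeCycle := by rw [← offHom_three e e u, hu]; exact hρ
  have hv3 : v.IsThreeCycle := by rw [← offHom_three e e v, hv]; exact hσ
  have h5 : 5 ≤ Nat.card (Off e e) := card_off hcard he he
  rw [Nat.card_eq_fintype_card] at h5
  have h1 : IsConj (⟨u, hu3.mem_alternatingGroup⟩ : alternatingGroup (Off e e))
      ⟨v, hv3.mem_alternatingGroup⟩ := alternatingGroup.isThreeCycle_isConj (by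
        rw [Nat.card_eq_fintype_card] ; exact h5) hu3 hv3
  obtain ⟨w, hw⟩ := isConj_iff.1 h1
  refine ⟨offHom e e w, ?_, (offHom_disj e e _).1, ?_⟩
  · rw [offHom_sign]; exact Perm.mem_alternatingGroup.1 w.2
  · have h2 := congrArg (fun z : alternatingGroup (Off e e) => offHom e e z.1) hw
    simp only [coe_mul, InvMemClass.coe_inv, map_mul, map_inv] at h2
    rw [hu, hv] at h2
    exact h2

/-- two lifts of the same label commute across -/
theorem Sys.cross [Finite G] (S : Sys t j) (hcard : 9 ≤ Fintype.card α) {ρ₀ : Perm α}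
    (hρ₀ : ρ₀.IsThreeCycle) {x₀ : G} (hx₀ : IsLift t j ρ₀ x₀) (c d : Perm α) :
    (j c * x₀ * (j c)⁻¹) * (t * (j d * x₀ * (j d)⁻¹) * t⁻¹) =
      (t * (j d * x₀ * (j d)⁻¹) * t⁻¹) * (j c * x₀ * (j c)⁻¹) := by
  have hc3 : (c * ρ₀ * c⁻¹).IsThreeCycle := by
    show (c * ρ₀ * c⁻¹).cycleType = {3}
    rw [Perm.cycleType_conj]; exact hρ₀
  have hd3 : (d * ρ₀ * d⁻¹).IsThreeCycle := by
    show (d * ρ₀ * d⁻¹).cycleType = {3}
    rw [Perm.cycleType_conj]; exact hρ₀
  have hr := hx₀.conj S.F c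
  set ρ := c * ρ₀ * c⁻¹ with hρ
  set σ := d * ρ₀ * d⁻¹ with hσ
  set r := j c * x₀ * (j c)⁻¹ with hrdef
  obtain ⟨x, y, hxy, hx, hy⟩ := exists_swap_out (ρ.support ∪ σ.support) (by
    have h1 := Finset.card_union_le ρ.support σ.support
    have h2 : ρ.support.card = 3 := hc3.card_support
    have h3 : σ.support.card = 3 := hd3.card_support
    omega)
  simp only [Finset.mem_union, Perm.mem_support, not_or, not_not] at hx hy
  set e : Perm α := swap x y with he'
  have he : e.IsSwap := ⟨x, y, hxy, rfl⟩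
  have hρe : Perm.Disjoint ρ e := disj_swap hx.1 hy.1
  have hσe : Perm.Disjoint σ e := disj_swap hx.2 hy.2
  have hs : t * j e = j e * t := S.F.comm e
  -- `J ∋ r`
  obtain ⟨J, hJ, hrJ⟩ : ∃ J, Good t j (j e) e J ∧ Good.Lift t j J ρ r := by
    obtain ⟨J, hJ⟩ := S.ex e he
    obtain ⟨z, hz⟩ := hJ.exists_lift hs hc3.sign hρe (three_cube hc3)
    rcases S.lift_eq hcard hc3 ⟨e, J, he, hρe, hJ, hz⟩ hr with h1 | h1
    · exact ⟨J, hJ, by rw [h1]; exact hz⟩
    · exact ⟨cj t J, hJ.symm S.F hs, by rw [h1]; exact hz.tconj S.F hJ hs⟩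
  obtain ⟨a, ha, hae, haρ⟩ := conj_out hcard he hc3 hd3 hρe hσe
  have h1 := hrJ.conj S.F a
  have h2 : cj (j a) J = J := hJ.cj_comp hs ha hae hJ.comp
  rw [h2, haρ] at h1
  -- `r^a = x₀^d`
  have h3 : j a * r * (j a)⁻¹ = j d * x₀ * (j d)⁻¹ := by
    have e1 : (d⁻¹ * (a * c)) * ρ₀ = ρ₀ * (d⁻¹ * (a * c)) := by
      have e2 : (a * c) * ρ₀ * (a * c)⁻¹ = d * ρ₀ * d⁻¹ := by
        rw [← hσ, ← haρ, hρ]; group
      calc (d⁻¹ * (a * c)) * ρ₀ = d⁻¹ * ((a * c) * ρ₀ * (a * c)⁻¹) * (a * c) := by group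
        _ = ρ₀ * (d⁻¹ * (a * c)) := by rw [e2]; group
    have e3 := S.stab hcard hρ₀ hx₀ e1
    have e4 : j (d⁻¹ * (a * c)) = (j d)⁻¹ * (j a * j c) := by rw [map_mul, map_inv, map_mul]
    rw [e4] at e3
    calc j a * r * (j a)⁻¹ = j d * ((j d)⁻¹ * (j a * j c) * x₀) * (j a * j c)⁻¹ := by rw [hrdef]; group
      _ = j d * (x₀ * ((j d)⁻¹ * (j a * j c))) * (j a * j c)⁻¹ := by rw [e3]
      _ = j d * x₀ * (j d)⁻¹ := by group
  rw [h3] at h1
  exact hJ.comm hs hrJ.mem h1.mem

end Cfsg.Agent.OddHalf.D5.SymLab
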