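import Cfsg.Agent.OddHalf.D3.Basic

/-!
# ODD D5, `C_G(t) = ⟨t⟩ × S_n`: components of `C(e)`, `e` a transposition

`Fr t j`: `C_G(t) = ⟨t⟩ × j(Sym Ω)`. `Good t j s e J`: `J` is a component of `C(s)`, moved by `t`, and
`{x x^t : x ∈ J} = j (Alt (Ω - e))`, no element of order three in the centre of `J`.
-/

set_option autoImplicit false
set_option linter.unusedSectionVars false

namespace Cfsg.Agent.OddHalf.D5.SymLab

open Subgroup Equiv Cfsg Cfsg.Agent.OddHalf.D3

variable {G : Type*} [Group G] {α : Type*} [Fintype α] [DecidableEq α]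

/-- `C_G(t) = ⟨t⟩ × j(Sym α)`. -/
structure Fr (t : G) (j : Perm α →* G) : Prop where
  tt : t * t = 1
  inj : Function.Injective j
  comm : ∀ a, t * j a = j a * t
  cent : ∀ g, g * t = t * g → ∃ a, g = j a ∨ g = t * j a
  ne : ∀ a, j a ≠ t

theorem Fr.t_inv {t : G} {j : Perm α →* G} (F : Fr t j) : t⁻¹ = t := inv_eq_of_mul_eq_one_left F.tt

theorem Fr.ttx {t : G} {j : Perm α →* G} (F : Fr t j) (x : G) : t * (t * x * t⁻¹) * t⁻¹ = x := by
  have : t * (t * x * t⁻¹) * t⁻¹ = (t * t) * x * (t * t)⁻¹ := by group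
  rw [this, F.tt]; simp

theorem Fr.conj_t {t : G} {j : Perm α →* G} (F : Fr t j) (a : Perm α) : t * j a * t⁻¹ = j a := by
  rw [F.comm]; group

theorem Fr.cj_cj {t : G} {j : Perm α →* G} (F : Fr t j) (J : Subgroup G) : cj t (cj t J) = J := by
  rw [D3.cj_cj, F.tt, cj_one]

/-- the components of `C(s)` over `j (Alt (Ω - e))` in the double case -/
structure Good (t : G) (j : Perm α →* G) (s : G) (e : Perm α) (J : Subgroup G) : Prop where
  comp : Comp s J
  ne : cj t J ≠ J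
  mem : ∀ d ∈ J, ∃ a, Perm.sign a = 1 ∧ Perm.Disjoint a e ∧ d * (t * d * t⁻¹) = j a
  ex : ∀ a, Perm.sign a = 1 → Perm.Disjoint a e → ∃ d ∈ J, d * (t * d * t⁻¹) = j a
  z3 : ∀ z ∈ J, (∀ y ∈ J, z * y = y * z) → z ^ 3 = 1 → z = 1

namespace Good

variable {t s : G} {j : Perm α →* G} {e : Perm α} {J : Subgroup G}

theorem comp' (h : Good t j s e J) (hs : t * s = s * t) : Comp s (cj t J) := h.comp.conj_of_comm hs

theorem comm' (h : Good t j s e J) (hs : t * s = s * t) : J ≤ centralizer ((cj t J : Subgroup G) : Set G) :=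
  h.comp.comm (h.comp' hs) h.ne.symm

theorem comm (h : Good t j s e J) (hs : t * s = s * t) {x y : G} (hx : x ∈ J) (hy : y ∈ J) :
    x * (t * y * t⁻¹) = (t * y * t⁻¹) * x :=
  comm_elt (h.comm' hs) hx (conj_mem_cj hy)

theorem s_comm (h : Good t j s e J) {x : G} (hx : x ∈ J) : x * s = s * x := mem_cs.1 (h.comp.le hx)

/-- `x ↦ x x^t` as a homomorphism -/
def pr (h : Good t j s e J) (hs : t * s = s * t) : J →* G where
  toFun x := x * (t * x * t⁻¹)
  map_one' := by simp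
  map_mul' := by
    rintro ⟨x, hx⟩ ⟨y, hy⟩
    show x * y * (t * (x * y) * t⁻¹) = x * (t * x * t⁻¹) * (y * (t * y * t⁻¹))
    have e1 := h.comm hs hy hx
    calc x * y * (t * (x * y) * t⁻¹) = x * (y * (t * x * t⁻¹)) * (t * y * t⁻¹) := by group
      _ = x * (t * x * t⁻¹) * (y * (t * y * t⁻¹)) := by rw [e1]; group

theorem pr_apply (h : Good t j s e J) (hs : t * s = s * t) (x : J) :
    h.pr hs x = (x : G) * (t * x * t⁻¹) := rfl

/-- the kernel is central -/
theorem central (h : Good t j s e J) (hs : t * s = s * t) {z : G} (hz : z ∈ J)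
    (hz1 : z * (t * z * t⁻¹) = 1) {y : G} (hy : y ∈ J) : z * y = y * z := by
  have h1 : t * z * t⁻¹ = z⁻¹ := (inv_eq_of_mul_eq_one_right hz1).symm
  have h2 := h.comm hs hy hz
  rw [h1] at h2
  have h3 : y * z⁻¹ = z⁻¹ * y := h2
  calc z * y = z * (y * z⁻¹) * z := by group
    _ = y * z := by rw [h3]; group

theorem symm (F : Fr t j) (h : Good t j s e J) (hs : t * s = s * t) : Good t j s e (cj t J) where
  comp := h.comp' hs
  ne := by
    intro h1
    rw [F.cj_cj] at h1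
    exact h.ne h1.symm
  mem := by
    intro d hd
    obtain ⟨x, hx, rfl⟩ := hd
    have hx' : x ∈ J := hx
    obtain ⟨a, h1, h2, h3⟩ := h.mem x hx'
    refine ⟨a, h1, h2, ?_⟩
    show t * x * t⁻¹ * (t * (t * x * t⁻¹) * t⁻¹) = j a
    rw [F.ttx, ← h.comm hs hx' hx', h3]
  ex := by
    intro a h1 h2
    obtain ⟨x, hx, hx1⟩ := h.ex a h1 h2
    refine ⟨t * x * t⁻¹, conj_mem_cj hx, ?_⟩
    rw [F.ttx, ← h.comm hs hx hx, hx1]
  z3 := by
    intro z hz hzc hz3
    obtain ⟨x, hx, rfl⟩ := hz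
    have hx' : x ∈ J := hx
    have e1 : (MulAut.conj t).toMonoidHom x = t * x * t⁻¹ := rfl
    have h1 : x = 1 := by
      apply h.z3 x hx'
      · intro y hy
        have h2 := hzc (t * y * t⁻¹) (conj_mem_cj hy)
        rw [e1] at h2
        calc x * y = t⁻¹ * ((t * x * t⁻¹) * (t * y * t⁻¹)) * t := by group
          _ = y * x := by rw [h2]; group
      · rw [← map_pow] at hz3
        exact (MulAut.conj t).injective (by
          show (MulAut.conj t).toMonoidHom (x ^ 3) = (MulAut.conj t).toMonoidHom 1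
          rw [hz3, map_one])
    rw [h1, map_one]

/-- conjugation by `j c` -/
theorem conj (F : Fr t j) (h : Good t j s e J) (c : Perm α) :
    Good t j (j c * s * (j c)⁻¹) (c * e * c⁻¹) (cj (j c) J) where
  comp := h.comp.conj (j c)
  ne := by
    intro h1
    apply h.ne
    apply cj_injective (j c)
    rw [D3.cj_cj, ← F.comm, ← D3.cj_cj]
    exact h1
  mem := by
    intro d hd
    obtain ⟨x, hx, rfl⟩ := hd
    obtain ⟨a, h1, h2, h3⟩ := h.mem x hx
    refine ⟨c * a * c⁻¹, ?_, ?_, ?_⟩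
    · rw [Perm.sign_mul, Perm.sign_mul, Perm.sign_inv, h1, mul_one, Int.units_mul_self]
    · exact h2.conj c
    · show j c * x * (j c)⁻¹ * (t * (j c * x * (j c)⁻¹) * t⁻¹) = _
      have e1 : t * (j c * x * (j c)⁻¹) * t⁻¹ = j c * (t * x * t⁻¹) * (j c)⁻¹ := by
        calc t * (j c * x * (j c)⁻¹) * t⁻¹ = (t * j c) * x * (t * j c)⁻¹ := by group
          _ = j c * (t * x * t⁻¹) * (j c)⁻¹ := by rw [F.comm]; group
      rw [e1, map_mul, map_mul, map_inv, ← h3]; group
  ex := by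
    intro a h1 h2
    obtain ⟨x, hx, hx1⟩ := h.ex (c⁻¹ * a * c) (by
      rw [Perm.sign_mul, Perm.sign_mul, Perm.sign_inv, h1, mul_one, Int.units_mul_self]) (by
      have h3 := h2.conj c⁻¹
      have e1 : c⁻¹ * (c * e * c⁻¹) * c⁻¹⁻¹ = e := by group
      rw [e1, inv_inv] at h3
      exact h3)
    refine ⟨j c * x * (j c)⁻¹, conj_mem_cj hx, ?_⟩
    have e1 : t * (j c * x * (j c)⁻¹) * t⁻¹ = j c * (t * x * t⁻¹) * (j c)⁻¹ := by
      calc t * (j c * x * (j c)⁻¹) * t⁻¹ = (t * j c) * x * (t * j c)⁻¹ := by group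
        _ = j c * (t * x * t⁻¹) * (j c)⁻¹ := by rw [F.comm]; group
    calc j c * x * (j c)⁻¹ * (t * (j c * x * (j c)⁻¹) * t⁻¹)
        = j c * (x * (t * x * t⁻¹)) * (j c)⁻¹ := by rw [e1]; group
      _ = j a := by
          rw [hx1, map_mul, map_mul, map_inv]; group
  z3 := by
    intro z hz hzc hz3
    obtain ⟨x, hx, rfl⟩ := hz
    have e1 : (MulAut.conj (j c)).toMonoidHom x = j c * x * (j c)⁻¹ := rfl
    have h1 : x = 1 := by
      apply h.z3 x hx
      · intro y hy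
        have h2 := hzc (j c * y * (j c)⁻¹) (conj_mem_cj hy)
        rw [e1] at h2
        calc x * y = (j c)⁻¹ * ((j c * x * (j c)⁻¹) * (j c * y * (j c)⁻¹)) * j c := by group
          _ = y * x := by rw [h2]; group
      · rw [← map_pow] at hz3
        exact (MulAut.conj (j c)).injective (by
          show (MulAut.conj (j c)).toMonoidHom (x ^ 3) = (MulAut.conj (j c)).toMonoidHom 1
          rw [hz3, map_one])
    rw [h1, map_one]

/-- `j (Alt (Ω - e))` is not abelian. -/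
def NonAb (e : Perm α) : Prop :=
  ∃ a b, Perm.sign a = 1 ∧ Perm.sign b = 1 ∧ Perm.Disjoint a e ∧ Perm.Disjoint b e ∧ a * b ≠ b * a

/-- `J` is unique up to `t` -/
theorem uniq (F : Fr t j) (hs : t * s = s * t) (hn : NonAb e) {J' : Subgroup G} (h : Good t j s e J)
    (h' : Good t j s e J') : J' = J ∨ J' = cj t J := by
  by_contra hcon
  push Not at hcon
  obtain ⟨h1, h2⟩ := hcon
  obtain ⟨a, b, ha, hb, hae, hbe, hab⟩ := hn
  apply hab
  apply F.inj
  rw [map_mul, map_mul]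
  obtain ⟨x, hx, hxa⟩ := h.ex a ha hae
  obtain ⟨y, hy, hyb⟩ := h'.ex b hb hbe
  have c1 := h'.comp.comm h.comp h1
  have c2 := h'.comp.comm (h.comp' hs) h2
  have d1 : y * j a = j a * y := by
    have e1 : y * x = x * y := comm_elt c1 hy hx
    have e2 : y * (t * x * t⁻¹) = (t * x * t⁻¹) * y := comm_elt c2 hy (conj_mem_cj hx)
    rw [← hxa, ← mul_assoc, e1, mul_assoc, e2, ← mul_assoc]
  have d2 : (t * y * t⁻¹) * j a = j a * (t * y * t⁻¹) := by
    have e1 : t⁻¹ * j a = j a * t⁻¹ := by rw [F.t_inv, F.comm]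
    calc (t * y * t⁻¹) * j a = t * y * (t⁻¹ * j a) := by group
      _ = t * (y * j a) * t⁻¹ := by rw [e1]; group
      _ = (t * j a) * y * t⁻¹ := by rw [d1]; group
      _ = _ := by rw [F.comm]; group
  rw [← hyb, ← mul_assoc, ← d1, mul_assoc, ← d2, ← mul_assoc]

/-! ### Lifts of order three -/

/-- `x` is the lift of order three of `a` -/
structure Lift (t : G) (j : Perm α →* G) (J : Subgroup G) (a : Perm α) (x : G) : Prop where
  mem : x ∈ J
  cube : x ^ 3 = 1
  eq : x * (t * x * t⁻¹) = j a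

theorem lift_unique (h : Good t j s e J) (hs : t * s = s * t) {a : Perm α} {x y : G}
    (hx : Lift t j J a x) (hy : Lift t j J a y) : x = y := by
  set X : J := ⟨x, hx.mem⟩ with hX
  set Y : J := ⟨y, hy.mem⟩ with hY
  have h1 : h.pr hs (X⁻¹ * Y) = 1 := by
    rw [map_mul, map_inv, pr_apply, pr_apply]
    show (x * (t * x * t⁻¹))⁻¹ * (y * (t * y * t⁻¹)) = 1
    rw [hx.eq, hy.eq, inv_mul_cancel]
  have h2 : ∀ u ∈ J, (x⁻¹ * y) * u = u * (x⁻¹ * y) := fun u hu =>
    h.central hs (J.mul_mem (J.inv_mem hx.mem) hy.mem) h1 hu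
  have h3 : (x⁻¹ * y) ^ 3 = 1 := by
    have e1 : Commute x (x⁻¹ * y) := (h2 x hx.mem).symm
    have e2 : y = x * (x⁻¹ * y) := by group
    have e3 : y ^ 3 = x ^ 3 * (x⁻¹ * y) ^ 3 := by
      conv_lhs => rw [e2]
      exact e1.mul_pow 3
    rw [hx.cube, hy.cube, one_mul] at e3
    exact e3.symm
  have h4 := h.z3 _ (J.mul_mem (J.inv_mem hx.mem) hy.mem) h2 h3
  exact inv_mul_eq_one.1 h4

theorem exists_lift [Finite G] (h : Good t j s e J) (hs : t * s = s * t) {a : Perm α}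
    (ha : Perm.sign a = 1) (hae : Perm.Disjoint a e) (ha3 : a ^ 3 = 1) : ∃ x, Lift t j J a x := by
  obtain ⟨d, hd, hda⟩ := h.ex a ha hae
  set D : J := ⟨d, hd⟩ with hD
  have hpr : h.pr hs D = j a := hda
  have h1 : h.pr hs (D ^ 3) = 1 := by rw [map_pow, hpr, ← map_pow, ha3, map_one]
  have hz : ∀ u ∈ J, (d ^ 3) * u = u * (d ^ 3) := fun u hu => h.central hs (J.pow_mem hd 3) h1 hu
  set m := orderOf (d ^ 3) with hm
  have hm0 : 0 < m := orderOf_pos _
  have h3m : ¬ 3 ∣ m := by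
    rintro ⟨k, hk⟩
    have hk0 : 0 < k := by omega
    have h4 : (d ^ 3) ^ k = 1 := by
      apply h.z3 _ (J.pow_mem (J.pow_mem hd 3) k)
      · intro u hu
        have : Commute (d ^ 3) u := hz u hu
        exact (this.pow_left k).eq
      · rw [← pow_mul, mul_comm k 3, ← hk, hm]
        exact pow_orderOf_eq_one _
    have h5 := orderOf_dvd_of_pow_eq_one h4
    rw [← hm, hk] at h5
    have := Nat.le_of_dvd hk0 h5
    omega
  have hco : Nat.Coprime 3 m := (Nat.Prime.coprime_iff_not_dvd Nat.prime_three).2 h3m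
  obtain ⟨r, hr1, hr2⟩ := Nat.chineseRemainder hco 1 0
  refine ⟨d ^ r, J.pow_mem hd r, ?_, ?_⟩
  · rw [← pow_mul, mul_comm, pow_mul]
    exact orderOf_dvd_iff_pow_eq_one.1 (by rw [← hm]; exact (Nat.modEq_zero_iff_dvd).1 hr2)
  · have h6 : h.pr hs (D ^ r) = j a := by
      rw [map_pow, hpr, ← map_pow]
      congr 1
      have : orderOf a ∣ 3 := orderOf_dvd_of_pow_eq_one ha3
      have h7 : r ≡ 1 [MOD orderOf a] := hr1.of_dvd this
      have h8 := pow_eq_pow_iff_modEq.2 h7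
      rw [h8, pow_one]
    exact h6

end Good

/-- transport of lifts -/
theorem Good.Lift.conj {t : G} {j : Perm α →* G} {J : Subgroup G} (F : Fr t j) {a : Perm α} {x : G}
    (h : Good.Lift t j J a x) (c : Perm α) :
    Good.Lift t j (cj (j c) J) (c * a * c⁻¹) (j c * x * (j c)⁻¹) where
  mem := conj_mem_cj h.mem
  cube := by rw [conj_pow, h.cube]; group
  eq := by
    have e1 : t * (j c * x * (j c)⁻¹) * t⁻¹ = j c * (t * x * t⁻¹) * (j c)⁻¹ := by
      calc t * (j c * x * (j c)⁻¹) * t⁻¹ = (t * j c) * x * (t * j c)⁻¹ := by group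
        _ = j c * (t * x * t⁻¹) * (j c)⁻¹ := by rw [F.comm]; group
    rw [e1, map_mul, map_mul, map_inv, ← h.eq]; group

theorem Good.Lift.tconj {t s : G} {j : Perm α →* G} {e : Perm α} {J : Subgroup G} (F : Fr t j)
    (hJ : Good t j s e J) (hs : t * s = s * t) {a : Perm α} {x : G}
    (h : Good.Lift t j J a x) : Good.Lift t j (cj t J) a (t * x * t⁻¹) where
  mem := conj_mem_cj h.mem
  cube := by rw [conj_pow, h.cube]; group
  eq := by rw [F.ttx, ← hJ.comm hs h.mem h.mem, h.eq]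

end Cfsg.Agent.OddHalf.D5.SymLab
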