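import Cfsg.Agent.OddHalf.D5.SymLab.Good

/-!
# ODD D5, `C_G(t) = ⟨t⟩ × S_n`: perfect subgroups `X` with `[X, X^t] = 1`, `x x^t ∈ j (Alt (Ω - f))`

`X ≤ C(s)` normalises the components of `C(s)` and acts on `J` by inner automorphisms (`Good t j s f J`).
-/

set_option autoImplicit false
set_option linter.unusedSectionVars false

namespace Cfsg.Agent.OddHalf.D5.SymLab

open Subgroup Equiv Cfsg Cfsg.Agent.OddHalf.D3
open scoped commutatorElement

variable {G : Type*} [Group G] {α : Type*} [Fintype α] [DecidableEq α]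

/-- the elements acting on `J` as inner automorphisms -/
def innS (J : Subgroup G) : Subgroup G where
  carrier := {g | ∃ b ∈ J, ∀ y ∈ J, g * y * g⁻¹ = b * y * b⁻¹}
  one_mem' := ⟨1, J.one_mem, fun _ _ => rfl⟩
  mul_mem' := by
    rintro g h ⟨b, hb, hg⟩ ⟨c, hc, hh⟩
    refine ⟨b * c, J.mul_mem hb hc, fun y hy => ?_⟩
    calc g * h * y * (g * h)⁻¹ = g * (h * y * h⁻¹) * g⁻¹ := by group
      _ = b * (c * y * c⁻¹) * b⁻¹ := by
          rw [hh y hy, hg _ (J.mul_mem (J.mul_mem hc hy) (J.inv_mem hc))]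
      _ = b * c * y * (b * c)⁻¹ := by group
  inv_mem' := by
    rintro g ⟨b, hb, hg⟩
    refine ⟨b⁻¹, J.inv_mem hb, fun y hy => ?_⟩
    have h1 := hg (b⁻¹ * y * b) (J.mul_mem (J.mul_mem (J.inv_mem hb) hy) hb)
    have h2 : b * (b⁻¹ * y * b) * b⁻¹ = y := by group
    rw [h2] at h1
    calc g⁻¹ * y * g⁻¹⁻¹ = g⁻¹ * (g * (b⁻¹ * y * b) * g⁻¹) * g := by rw [h1]; group
      _ = b⁻¹ * y * b⁻¹⁻¹ := by group

theorem mem_innS {J : Subgroup G} {g : G} : g ∈ innS J ↔ ∃ b ∈ J, ∀ y ∈ J, g * y * g⁻¹ = b * y * b⁻¹ :=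
  Iff.rfl

theorem innS_conj {J : Subgroup G} {g x : G} (hg : g ∈ innS J) (hx : cj x J = J) :
    x * g * x⁻¹ ∈ innS J := by
  obtain ⟨b, hb, h⟩ := hg
  have h1 : ∀ u ∈ J, x * u * x⁻¹ ∈ J := fun u hu => by
    have := conj_mem_cj (g := x) hu
    rwa [hx] at this
  have h2 : ∀ u ∈ J, x⁻¹ * u * x ∈ J := fun u hu => by
    rw [← mem_cj, hx]; exact hu
  refine ⟨x * b * x⁻¹, h1 b hb, fun y hy => ?_⟩
  calc x * g * x⁻¹ * y * (x * g * x⁻¹)⁻¹ = x * (g * (x⁻¹ * y * x) * g⁻¹) * x⁻¹ := by group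
    _ = x * (b * (x⁻¹ * y * x) * b⁻¹) * x⁻¹ := by rw [h _ (h2 y hy)]
    _ = _ := by group

variable {t s : G} {j : Perm α →* G} {f : Perm α} {J X : Subgroup G}

/-- hypotheses on `X` -/
structure Per (t : G) (j : Perm α →* G) (s : G) (f : Perm α) (X : Subgroup G) : Prop where
  s : ∀ x ∈ X, x * s = s * x
  comm : ∀ x ∈ X, ∀ y ∈ X, x * (t * y * t⁻¹) = (t * y * t⁻¹) * x
  pr : ∀ x ∈ X, ∃ a, Perm.sign a = 1 ∧ Perm.Disjoint a f ∧ x * (t * x * t⁻¹) = j a
  perf : ⁅X, X⁆ = X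

/-- the subgroup of `C(s)` normalising the components -/
def norS (s : G) : Subgroup G where
  carrier := {g | g * s = s * g ∧ ∀ L, Comp s L → cj g L = L}
  one_mem' := ⟨by rw [one_mul, mul_one], fun L _ => cj_one L⟩
  mul_mem' := by
    rintro g h ⟨h1, h2⟩ ⟨h3, h4⟩
    refine ⟨by rw [mul_assoc, h3, ← mul_assoc, h1, mul_assoc], fun L hL => ?_⟩
    rw [← cj_cj, h4 L hL, h2 L hL]
  inv_mem' := by
    rintro g ⟨h1, h2⟩
    refine ⟨by rw [inv_mul_eq_iff_eq_mul, ← mul_assoc, h1, mul_inv_cancel_right], fun L hL => ?_⟩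
    conv_lhs => rw [← h2 L hL]
    exact cj_inv_cj g L

theorem Good.cj_comp (h : Good t j s f J) (hs : t * s = s * t) {a : Perm α} (ha : Perm.sign a = 1)
    (haf : Perm.Disjoint a f) {L : Subgroup G} (hL : Comp s L) : cj (j a) L = L := by
  obtain ⟨d, hd, hda⟩ := h.ex a ha haf
  rw [← hda, ← cj_cj]
  have key : ∀ {M : Subgroup G}, Comp s M → ∀ u ∈ M, cj u L = L := by
    intro M hM u hu
    by_cases hML : M = L
    · rw [← hML]; exact cj_eq_of_mem hu
    · exact cj_eq_of_mem_centralizer (hM.comm hL hML hu)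
  rw [key (h.comp' hs) _ (conj_mem_cj hd), key h.comp d hd]

/-- if `j (Alt (Ω - f))` lies in a component of `C(s)`, it normalises all of them -/
theorem cj_of_le {D : Subgroup G} (hD : Comp s D)
    (hle : ∀ a, Perm.sign a = 1 → Perm.Disjoint a f → j a ∈ D) {a : Perm α} (ha : Perm.sign a = 1)
    (haf : Perm.Disjoint a f) {L : Subgroup G} (hL : Comp s L) : cj (j a) L = L := by
  have h1 := hle a ha haf
  by_cases hML : D = L
  · rw [← hML]; exact cj_eq_of_mem h1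
  · exact cj_eq_of_mem_centralizer (hD.comm hL hML h1)

theorem Per.norS_le' (h : ∀ a, Perm.sign a = 1 → Perm.Disjoint a f → ∀ L, Comp s L → cj (j a) L = L)
    (P : Per t j s f X) : X ≤ norS s := by
  have hA : ∀ x ∈ X, ∀ L, Comp s L → cj (t * x * t⁻¹) L = cj x⁻¹ L := by
    intro x hx L hL
    obtain ⟨a, ha, haf, h1⟩ := P.pr x hx
    have h2 := h a ha haf L hL
    rw [← h1, ← cj_cj] at h2
    calc cj (t * x * t⁻¹) L = cj x⁻¹ (cj x (cj (t * x * t⁻¹) L)) := (cj_inv_cj _ _).symm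
      _ = cj x⁻¹ L := by rw [h2]
  have hB : ∀ x ∈ X, ∀ y ∈ X, ∀ L, Comp s L → cj (x * y) L = cj (y * x) L := by
    intro x hx y hy L hL
    have h1 := P.comm x hx y⁻¹ (X.inv_mem hy)
    have h2 := hA y⁻¹ (X.inv_mem hy) L hL
    have h3 := hA y⁻¹ (X.inv_mem hy) (cj x L) (hL.conj_of_comm (P.s x hx))
    rw [inv_inv] at h2 h3
    calc cj (x * y) L = cj x (cj y L) := (cj_cj _ _ _).symm
      _ = cj (x * (t * y⁻¹ * t⁻¹)) L := by rw [← h2, cj_cj]
      _ = cj (t * y⁻¹ * t⁻¹) (cj x L) := by rw [h1, cj_cj]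
      _ = cj (y * x) L := by rw [h3, cj_cj]
  have hC : ⁅X, X⁆ ≤ norS s := by
    rw [commutator_le]
    intro x hx y hy
    refine ⟨?_, fun L hL => ?_⟩
    · have c1 : Commute x s := P.s x hx
      have c2 : Commute y s := P.s y hy
      exact (((c1.mul_left c2).mul_left c1.inv_left).mul_left c2.inv_left).eq
    · have hcm : (y * x) * s = s * (y * x) := by
        have c1 : Commute x s := P.s x hx
        have c2 : Commute y s := P.s y hy
        exact (c2.mul_left c1).eq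
      have hL' : Comp s (cj (y * x)⁻¹ L) := by
        apply hL.conj_of_comm
        rw [inv_mul_eq_iff_eq_mul, ← mul_assoc, hcm, mul_inv_cancel_right]
      have h1 := hB x hx y hy _ hL'
      rw [cj_cj_inv] at h1
      have e : ⁅x, y⁆ = (x * y) * (y * x)⁻¹ := by rw [commutatorElement_def]; group
      rw [e, ← cj_cj, h1]
  rw [P.perf] at hC
  exact hC

theorem Per.norS_le (h : Good t j s f J) (hs : t * s = s * t) (P : Per t j s f X) : X ≤ norS s :=
  P.norS_le' (fun _ ha haf _ hL => h.cj_comp hs ha haf hL)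

theorem Per.innS_le (h : Good t j s f J) (hs : t * s = s * t) (P : Per t j s f X) : X ≤ innS J := by
  have hN : ∀ x ∈ X, cj x J = J := fun x hx => (P.norS_le h hs hx).2 J h.comp
  have hA : ∀ a, Perm.sign a = 1 → Perm.Disjoint a f → j a ∈ innS J := by
    intro a ha haf
    obtain ⟨d, hd, hda⟩ := h.ex a ha haf
    refine ⟨d, hd, fun y hy => ?_⟩
    have e1 := h.comm hs hy hd
    calc j a * y * (j a)⁻¹ = d * ((t * d * t⁻¹) * y) * (t * d * t⁻¹)⁻¹ * d⁻¹ := by rw [← hda]; group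
      _ = d * (y * (t * d * t⁻¹)) * (t * d * t⁻¹)⁻¹ * d⁻¹ := by rw [e1]
      _ = d * y * d⁻¹ := by group
  have hC : ⁅X, X⁆ ≤ innS J := by
    rw [commutator_le]
    intro x hx y hy
    obtain ⟨a, ha, haf, h1⟩ := P.pr y⁻¹ (X.inv_mem hy)
    have h2 := P.comm x hx y⁻¹ (X.inv_mem hy)
    -- `y⁻¹ y'⁻¹ = j a`, `x` commutes with `y'⁻¹`
    have h3 : t * y⁻¹ * t⁻¹ = y * j a := by rw [← h1]; group
    rw [h3] at h2
    have h4 : ⁅x, y⁆ = y * (j a * (x * (j a)⁻¹ * x⁻¹)) * y⁻¹ := by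
      rw [commutatorElement_def]
      calc x * y * x⁻¹ * y⁻¹ = (x * (y * j a)) * (j a)⁻¹ * x⁻¹ * y⁻¹ := by group
        _ = y * (j a * (x * (j a)⁻¹ * x⁻¹)) * y⁻¹ := by rw [h2]; group
    rw [h4]
    apply innS_conj _ (hN y hy)
    exact mul_mem (hA a ha haf) (innS_conj (inv_mem (hA a ha haf)) (hN x hx))
  rw [P.perf] at hC
  exact hC

end Cfsg.Agent.OddHalf.D5.SymLab
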