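import Cfsg.Agent.OddHalf.D5.SymLab.Swap

/-!
# The lifts of a 3-cycle in `J_e` and in `J_f`, `e`, `f` disjoint transpositions
-/

set_option autoImplicit false
set_option linter.unusedSectionVars false

namespace Cfsg.Agent.OddHalf.D5.SymLab

open Subgroup Equiv Cfsg Cfsg.Agent.OddHalf.D3 Cfsg.Agent.SignalizersComponents
open scoped commutatorElement

variable {G : Type*} [Group G] {α : Type*} [Fintype α] [DecidableEq α]
variable {t s : G} {j : Perm α →* G} {e f : Perm α} {J : Subgroup G}

/-- the centre of `C` is the kernel -/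
theorem quasisimple_of_surj {C U : Type*} [Group C] [Group U] (π : C →* U)
    (hs : Function.Surjective π) (hk : π.ker ≤ Subgroup.center C) (hperf : Group.IsPerfect C)
    (hU : IsSimpleGroup U) (hna : ∃ x y : U, x * y ≠ y * x) : IsQuasisimple C := by
  refine ⟨hperf, ?_⟩
  have hc : Subgroup.center C = π.ker := by
    apply le_antisymm _ hk
    intro c hc
    have h1 : (Subgroup.center C).map π ≤ Subgroup.center U := by
      rintro _ ⟨z, hz, rfl⟩
      rw [mem_center_iff]
      intro u
      obtain ⟨v, rfl⟩ := hs u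
      rw [← map_mul, ← map_mul, mem_center_iff.1 hz v]
    have h2 : Subgroup.center U = ⊥ := by
      rcases (inferInstance : (Subgroup.center U).Normal).eq_bot_or_eq_top with h | h
      · exact h
      · exfalso
        obtain ⟨x, y, hxy⟩ := hna
        apply hxy
        have : y ∈ Subgroup.center U := by rw [h]; exact mem_top _
        exact mem_center_iff.1 this x
    rw [h2] at h1
    exact (mem_bot.1 (h1 ⟨c, hc, rfl⟩))
  have e1 : C ⧸ Subgroup.center C ≃* C ⧸ π.ker := QuotientGroup.quotientMulEquivOfEq hc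
  have e := e1.trans (QuotientGroup.quotientKerEquivOfSurjective π hs)
  have hn : Nontrivial (C ⧸ Subgroup.center C) := e.toEquiv.nontrivial
  exact IsSimpleGroup.isSimpleGroup_of_surjective e.symm.toMonoidHom e.symm.surjective

/-- the letters outside of `e`, `f` -/
abbrev Off (e f : Perm α) : Type _ := {x : α // e x = x ∧ f x = x}

/-- the permutations of these letters -/
noncomputable def offHom (e f : Perm α) : Perm (Off e f) →* Perm α := Perm.ofSubtype

theorem offHom_inj (e f : Perm α) : Function.Injective (offHom e f) := Perm.ofSubtype_injective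

theorem offHom_disj (e f : Perm α) (u : Perm (Off e f)) :
    Perm.Disjoint (offHom e f u) e ∧ Perm.Disjoint (offHom e f u) f := by
  constructor
  · intro x
    by_cases hx : e x = x ∧ f x = x
    · right; exact hx.1
    · left; exact Perm.ofSubtype_apply_of_not_mem u hx
  · intro x
    by_cases hx : e x = x ∧ f x = x
    · right; exact hx.2
    · left; exact Perm.ofSubtype_apply_of_not_mem u hx

theorem offHom_sign (e f : Perm α) (u : Perm (Off e f)) : Perm.sign (offHom e f u) = Perm.sign u :=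
  Perm.sign_ofSubtype u

theorem offHom_three (e f : Perm α) (u : Perm (Off e f)) :
    (offHom e f u).IsThreeCycle ↔ u.IsThreeCycle := by
  unfold Perm.IsThreeCycle offHom
  rw [Perm.cycleType_ofSubtype]

theorem exists_off {e f a : Perm α} (h1 : Perm.Disjoint a e) (h2 : Perm.Disjoint a f) :
    ∃ u : Perm (Off e f), offHom e f u = a := by
  have hmem : ∀ x, (e (a x) = a x ∧ f (a x) = a x) ↔ (e x = x ∧ f x = x) := by
    intro x
    symm
    by_cases hx : a x = x
    · rw [hx]
    · have e1 := (h1 x).resolve_left hx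
      have e2 := (h2 x).resolve_left hx
      have hax : a (a x) ≠ a x := fun h => hx (a.injective h)
      exact ⟨fun _ => ⟨(h1 _).resolve_left hax, (h2 _).resolve_left hax⟩, fun _ => ⟨e1, e2⟩⟩
  refine ⟨a.subtypePerm hmem, ?_⟩
  apply Perm.ofSubtype_subtypePerm
  intro x hx
  exact ⟨(h1 x).resolve_left hx, (h2 x).resolve_left hx⟩

/-- `{x x^t : x ∈ X}` -/
theorem Good.map_XS [Finite G] (h : Good t j s e J) (hs : t * s = s * t) :
    ((XS t j J e f).subgroupOf J).map (h.pr hs) =
      (alternatingGroup (Off e f)).map (j.comp (offHom e f)) := by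
  apply le_antisymm
  · rintro _ ⟨x, hx, rfl⟩
    obtain ⟨a, h1, h2, h3, h4⟩ := h.pr_XS hs x.1 hx
    obtain ⟨u, hu⟩ := exists_off h2 h3
    refine ⟨u, ?_, ?_⟩
    · show u ∈ alternatingGroup _
      rw [Perm.mem_alternatingGroup, ← offHom_sign, hu, h1]
    · show j (offHom e f u) = h.pr hs x
      rw [hu, ← h4]; rfl
  · rw [← Perm.closure_three_cycles_eq_alternating, MonoidHom.map_closure, closure_le]
    rintro _ ⟨u, hu, rfl⟩
    have hu' : (offHom e f u).IsThreeCycle := (offHom_three e f u).2 hu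
    obtain ⟨x, hx⟩ := h.exists_lift hs (Perm.IsThreeCycle.sign hu') (offHom_disj e f u).1 (three_cube hu')
    refine ⟨⟨x, hx.mem⟩, ?_, hx.eq⟩
    show x ∈ XS t j J e f
    exact subset_closure ⟨_, hu', (offHom_disj e f u).1, (offHom_disj e f u).2, hx⟩

theorem card_off (hcard : 9 ≤ Fintype.card α) (he : e.IsSwap) (hf : f.IsSwap) : 5 ≤ Nat.card (Off e f) := by
  rw [Nat.card_eq_fintype_card, Fintype.card_subtype]
  have h1 : (Finset.univ.filter fun x => e x = x ∧ f x = x) = (e.support ∪ f.support)ᶜ := by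
    ext x
    simp only [Finset.mem_filter, Finset.mem_univ, true_and, Finset.mem_compl, Finset.mem_union,
      Perm.mem_support, not_or, not_not]
  rw [h1, Finset.card_compl]
  have h2 := Finset.card_union_le e.support f.support
  have h3 : e.support.card = 2 := Perm.card_support_eq_two.2 he
  have h4 : f.support.card = 2 := Perm.card_support_eq_two.2 hf
  omega

theorem exists_emb5 {β : Type*} [Fintype β] (h : 5 ≤ Nat.card β) : Nonempty (Fin 5 ↪ β) := by
  rw [Nat.card_eq_fintype_card] at h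
  exact Function.Embedding.nonempty_of_card_le (by rw [Fintype.card_fin]; exact h)

theorem c3_ne : (c3 0 1 2 : Perm (Fin 5)) * c3 0 1 3 ≠ c3 0 1 3 * c3 0 1 2 := by
  unfold c3; decide +kernel

theorem nonAb (hcard : 9 ≤ Fintype.card α) (he : e.IsSwap) (hf : f.IsSwap) :
    ∃ a b : Perm α, a.IsThreeCycle ∧ b.IsThreeCycle ∧ Perm.Disjoint a e ∧ Perm.Disjoint b e ∧
      Perm.Disjoint a f ∧ Perm.Disjoint b f ∧ a * b ≠ b * a := by
  obtain ⟨q⟩ := exists_emb5 (card_off hcard he hf)
  refine ⟨offHom e f (Em q (c3 0 1 2)), offHom e f (Em q (c3 0 1 3)), ?_, ?_, (offHom_disj e f _).1,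
    (offHom_disj e f _).1, (offHom_disj e f _).2, (offHom_disj e f _).2, ?_⟩
  · exact (offHom_three e f _).2 (Em_three q (three_c3 (by decide) (by decide) (by decide)))
  · exact (offHom_three e f _).2 (Em_three q (three_c3 (by decide) (by decide) (by decide)))
  · intro h
    rw [← map_mul, ← map_mul, ← map_mul, ← map_mul] at h
    exact c3_ne (Em_inj q (offHom_inj e f h))

theorem nonAb' (hcard : 9 ≤ Fintype.card α) (he : e.IsSwap) : Good.NonAb e := by
  obtain ⟨a, b, h1, h2, h3, h4, _, _, h5⟩ := nonAb hcard he he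
  exact ⟨a, b, h1.sign, h2.sign, h3, h4, h5⟩

/-- `X` is quasisimple -/
theorem Good.quasi_XS [Finite G] (F : Fr t j) (h : Good t j s e J) (hs : t * s = s * t)
    (hcard : 9 ≤ Fintype.card α) (he : e.IsSwap) (hf : f.IsSwap) : IsQuasisimple (XS t j J e f) := by
  have h5 : 5 ≤ Nat.card (Off e f) := card_off hcard he hf
  have hsimple : IsSimpleGroup (alternatingGroup (Off e f)) := alternatingGroup.isSimpleGroup h5
  set Θ : Perm (Off e f) →* G := j.comp (offHom e f) with hΘ
  have hΘi : Function.Injective Θ := F.inj.comp (offHom_inj e f)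
  set E := (alternatingGroup (Off e f)).equivMapOfInjective Θ hΘi with hE
  have hle := XS_le t j J e f
  -- the homomorphism `X → G`
  let π₀ : XS t j J e f →* G := (h.pr hs).comp (inclusion hle)
  have hπ₀ : ∀ x, π₀ x ∈ (alternatingGroup (Off e f)).map Θ := by
    intro x
    rw [← h.map_XS hs]
    exact ⟨⟨x.1, hle x.2⟩, x.2, rfl⟩
  let π : XS t j J e f →* (alternatingGroup (Off e f)).map Θ := π₀.codRestrict _ hπ₀
  let π' : XS t j J e f →* alternatingGroup (Off e f) := E.symm.toMonoidHom.comp π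
  have hsurj : Function.Surjective π := by
    rintro ⟨y, hy⟩
    have hy' := hy
    rw [← h.map_XS hs] at hy'
    obtain ⟨x, hx, hxy⟩ := hy'
    exact ⟨⟨x.1, hx⟩, Subtype.ext hxy⟩
  refine quasisimple_of_surj π' (E.symm.surjective.comp hsurj) ?_ ?_ hsimple ?_
  · intro x hx
    have h1 : π x = 1 := by
      have : E.symm (π x) = 1 := hx
      rw [← E.symm.map_one] at this
      exact E.symm.injective this
    have h2 : h.pr hs ⟨x.1, hle x.2⟩ = 1 := congrArg Subtype.val h1
    rw [mem_center_iff]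
    intro y
    exact Subtype.ext (h.central hs (hle x.2) h2 (hle y.2)).symm
  · exact Subgroup.isPerfect_iff.2 (h.perf_XS hs hcard he hf)
  · obtain ⟨q⟩ := exists_emb5 h5
    refine ⟨⟨Em q (c3 0 1 2), ?_⟩, ⟨Em q (c3 0 1 3), ?_⟩, ?_⟩
    · rw [Perm.mem_alternatingGroup, sign_Em, sign_c3 (by decide) (by decide)]
    · rw [Perm.mem_alternatingGroup, sign_Em, sign_c3 (by decide) (by decide)]
    · intro h
      have h1 := congrArg Subtype.val h
      change Em q (c3 0 1 2) * Em q (c3 0 1 3) = Em q (c3 0 1 3) * Em q (c3 0 1 2) at h1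
      rw [← map_mul, ← map_mul] at h1
      exact c3_ne (Em_inj q h1)

/-- `X` is a component of `C(e) ∩ C(f)` -/
theorem Good.comp_XS [Finite G] (F : Fr t j) (h : Good t j (j e) e J)
    (hcard : 9 ≤ Fintype.card α) (he : e.IsSwap) (hf : f.IsSwap) (hef : Perm.Disjoint e f)
    (hJ : cj (j f) J = J) :
    XS t j J e f ≤ centralizer ({j e} : Set G) ⊓ centralizer ({j f} : Set G) ∧
      IsComponent ((XS t j J e f).subgroupOf (centralizer ({j e} : Set G) ⊓ centralizer ({j f} : Set G))) := by
  have hs : t * j e = j e * t := F.comm e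
  have hle := XS_le t j J e f
  set C := centralizer ({j e} : Set G) ⊓ centralizer ({j f} : Set G) with hC
  have hXf : ∀ u ∈ XS t j J e f, j f * u = u * j f := by
    apply h.comm_XS hs (F.comm f).symm hJ
    intro ρ _ _ hρ
    rw [← map_mul, ← map_mul, hρ.commute.eq]
  have hXC : XS t j J e f ≤ C := by
    intro x hx
    exact mem_inf.2 ⟨h.comp.le (hle hx), mem_cs.2 (hXf x hx).symm⟩
  refine ⟨hXC, ?_, ?_⟩
  · -- subnormal
    have h1 : (J.subgroupOf C).IsSubnormal := by
      have h2 := h.comp.comp.1.comap (inclusion (inf_le_left : C ≤ centralizer ({j e} : Set G)))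
      exact h2
    have h3 : (XS t j J e f).subgroupOf C ≤ J.subgroupOf C := comap_mono hle
    refine IsSubnormal.trans h3 ?_ h1
    apply Normal.isSubnormal
    refine ⟨?_⟩
    rintro ⟨⟨x, hxC⟩, hxJ⟩ hx ⟨⟨g, hgC⟩, hgJ⟩
    have hx' : x ∈ XS t j J e f := hx
    have hgJ' : g ∈ J := hgJ
    have hgf : g * j f = j f * g := mem_cs.1 (mem_inf.1 hgC).2
    show g * x * g⁻¹ ∈ XS t j J e f
    -- `pr g`
    obtain ⟨c, hc1, hce, hc⟩ := h.mem g hgJ'
    have hcf : c * f = f * c := by
      apply F.inj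
      rw [map_mul, map_mul, ← hc]
      have e1 : (t * g * t⁻¹) * j f = j f * (t * g * t⁻¹) := by
        calc (t * g * t⁻¹) * j f = t * g * (t⁻¹ * j f) := by group
          _ = t * (g * j f) * t⁻¹ := by rw [F.t_inv, F.comm]; group
          _ = (t * j f) * g * t⁻¹ := by rw [hgf]; group
          _ = j f * (t * g * t⁻¹) := by rw [F.comm]; group
      rw [mul_assoc, e1, ← mul_assoc, hgf, mul_assoc]
    have hstab : ∀ y ∈ XS t j J e f, g * y * g⁻¹ ∈ XS t j J e f := by
      intro y hy
      unfold XS at hy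
      induction hy using closure_induction with
      | mem y hy =>
        obtain ⟨ρ, h1, h2, h3, h4⟩ := hy
        refine subset_closure ⟨c * ρ * c⁻¹, ?_, ?_, ?_, ?_, ?_, ?_⟩
        · show (c * ρ * c⁻¹).cycleType = {3}
          rw [Perm.cycleType_conj]; exact h1
        · have h5 := h2.conj c
          have e1 : c * e * c⁻¹ = e := by rw [hce.commute.eq]; group
          rwa [e1] at h5
        · have h5 := h3.conj c
          have e1 : c * f * c⁻¹ = f := by rw [hcf]; group
          rwa [e1] at h5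
        · exact J.mul_mem (J.mul_mem hgJ' h4.mem) (J.inv_mem hgJ')
        · rw [conj_pow, h4.cube]; group
        · have e1 : h.pr hs (⟨g, hgJ'⟩ * ⟨y, h4.mem⟩ * ⟨g, hgJ'⟩⁻¹) = j (c * ρ * c⁻¹) := by
            have e2 : h.pr hs ⟨g, hgJ'⟩ = j c := hc
            have e3 : h.pr hs ⟨y, h4.mem⟩ = j ρ := h4.eq
            rw [map_mul, map_mul, map_inv, e2, e3, map_mul, map_mul, map_inv]
          exact e1
      | one => rw [mul_one, mul_inv_cancel]; exact one_mem _
      | mul y z _ _ hy hz =>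
        have e1 : g * (y * z) * g⁻¹ = (g * y * g⁻¹) * (g * z * g⁻¹) := by group
        rw [e1]; exact mul_mem hy hz
      | inv y _ hy =>
        have e1 : g * y⁻¹ * g⁻¹ = (g * y * g⁻¹)⁻¹ := by group
        rw [e1]; exact inv_mem hy
    exact hstab x hx'
  · exact Components.isQuasisimple_of_mulEquiv (Subgroup.subgroupOfEquivOfLe hXC).symm
      (h.quasi_XS F hs hcard he hf)

/-- `X = X(e, f)` lies in `J'` or `J'^t`, for `J'` over `f` -/
theorem Good.XS_le_or [Finite G] (F : Fr t j) {J' : Subgroup G} (h : Good t j (j e) e J)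
    (h' : Good t j (j f) f J')
    (hcard : 9 ≤ Fintype.card α) (he : e.IsSwap) (hf : f.IsSwap) (hef : Perm.Disjoint e f)
    (hJ : cj (j f) J = J) (hJ' : cj (j e) J' = J') :
    XS t j J e f ≤ J' ∨ XS t j J e f ≤ cj t J' := by
  have hs : t * j e = j e * t := F.comm e
  have hs' : t * j f = j f * t := F.comm f
  obtain ⟨hXC, hcomp⟩ := h.comp_XS F hcard he hf hef hJ
  set C := centralizer ({j e} : Set G) ⊓ centralizer ({j f} : Set G) with hC
  have hXe : ∀ u ∈ XS t j J' f e, j e * u = u * j e := by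
    apply h'.comm_XS hs' (F.comm e).symm hJ'
    intro ρ _ _ hρ
    rw [← map_mul, ← map_mul, hρ.commute.eq]
  have hYC : XS t j J' f e ≤ C := by
    intro x hx
    exact mem_inf.2 ⟨mem_cs.2 (hXe x hx).symm, h'.comp.le (XS_le _ _ _ _ _ hx)⟩
  have htC : ∀ y ∈ C, t * y * t⁻¹ ∈ C := by
    intro y hy
    have h1 := mem_cs.1 (mem_inf.1 hy).1
    have h2 := mem_cs.1 (mem_inf.1 hy).2
    have aux : ∀ u : Perm α, y * j u = j u * y → (t * y * t⁻¹) * j u = j u * (t * y * t⁻¹) := by
      intro u hu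
      calc (t * y * t⁻¹) * j u = t * y * (t⁻¹ * j u) := by group
        _ = t * (y * j u) * t⁻¹ := by rw [F.t_inv, F.comm]; group
        _ = (t * j u) * y * t⁻¹ := by rw [hu]; group
        _ = j u * (t * y * t⁻¹) := by rw [F.comm]; group
    exact mem_inf.2 ⟨mem_cs.2 (aux e h1), mem_cs.2 (aux f h2)⟩
  have key : ∀ M : Subgroup G, Comp (j f) M → XS t j J e f ≤ M ∨
      ∀ x ∈ XS t j J e f, ∀ y ∈ M, y ∈ C → x * y = y * x := by
    intro M hM
    have h1 : (M.subgroupOf C).IsSubnormal :=
      hM.comp.1.comap (inclusion (inf_le_right : C ≤ centralizer ({j f} : Set G)))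
    rcases Components.component_le_or_commutator_eq_bot hcomp h1 with h2 | h2
    · left
      intro x hx
      exact h2 (show (⟨x, hXC hx⟩ : C) ∈ (XS t j J e f).subgroupOf C from hx)
    · right
      intro x hx y hy hyC
      rw [commutator_eq_bot_iff_le_centralizer] at h2
      have h3 := h2 (show (⟨x, hXC hx⟩ : C) ∈ (XS t j J e f).subgroupOf C from hx)
      have h4 := mem_centralizer_iff.1 h3 ⟨y, hyC⟩ hy
      exact (congrArg Subtype.val h4).symm
  rcases key J' h'.comp with h1 | h1
  · exact Or.inl h1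
  rcases key _ (h'.comp' hs') with h2 | h2
  · exact Or.inr h2
  exfalso
  obtain ⟨a, b, ha, hb, hae, hbe, haf, hbf, hab⟩ := nonAb hcard he hf
  obtain ⟨x, hx⟩ := h.exists_lift hs ha.sign hae (three_cube ha)
  obtain ⟨y, hy⟩ := h'.exists_lift hs' hb.sign hbf (three_cube hb)
  have hxX : x ∈ XS t j J e f := subset_closure ⟨a, ha, hae, haf, hx⟩
  have hyY : y ∈ XS t j J' f e := subset_closure ⟨b, hb, hbf, hbe, hy⟩
  have e1 := h1 x hxX y hy.mem (hYC hyY)
  have e2 := h2 x hxX (t * y * t⁻¹) (conj_mem_cj hy.mem) (htC y (hYC hyY))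
  have e3 : x * j b = j b * x := by
    rw [← hy.eq, ← mul_assoc, e1, mul_assoc, e2, ← mul_assoc]
  have e4 : (t * x * t⁻¹) * j b = j b * (t * x * t⁻¹) := by
    calc (t * x * t⁻¹) * j b = t * x * (t⁻¹ * j b) := by group
      _ = t * (x * j b) * t⁻¹ := by rw [F.t_inv, F.comm]; group
      _ = (t * j b) * x * t⁻¹ := by rw [e3]; group
      _ = j b * (t * x * t⁻¹) := by rw [F.comm]; group
  apply hab
  apply F.inj
  rw [map_mul, map_mul, ← hx.eq, mul_assoc, e4, ← mul_assoc, e3, mul_assoc]

/-! ### the lifts -/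

/-- the data -/
structure Sys (t : G) (j : Perm α →* G) : Prop where
  F : Fr t j
  ex : ∀ e : Perm α, e.IsSwap → ∃ J, Good t j (j e) e J
  nsw : ∀ (e f : Perm α) (J : Subgroup G), e.IsSwap → f.IsSwap → Perm.Disjoint e f →
    Good t j (j e) e J → cj (j f) J = J

/-- `x` is a lift of `ρ` -/
def IsLift (t : G) (j : Perm α →* G) (ρ : Perm α) (x : G) : Prop :=
  ∃ (e : Perm α) (J : Subgroup G), e.IsSwap ∧ Perm.Disjoint ρ e ∧ Good t j (j e) e J ∧ Good.Lift t j J ρ x

/-- disjoint `e`, `f` -/
theorem Sys.two [Finite G] (S : Sys t j) (hcard : 9 ≤ Fintype.card α) {J' : Subgroup G}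
    (he : e.IsSwap) (hf : f.IsSwap) (hef : Perm.Disjoint e f) (h : Good t j (j e) e J)
    (h' : Good t j (j f) f J') {ρ : Perm α} (hρ : ρ.IsThreeCycle) (hρe : Perm.Disjoint ρ e)
    (hρf : Perm.Disjoint ρ f) {x y : G} (hx : Good.Lift t j J ρ x) (hy : Good.Lift t j J' ρ y) :
    y = x ∨ y = t * x * t⁻¹ := by
  have hs : t * j e = j e * t := S.F.comm e
  have hs' : t * j f = j f * t := S.F.comm f
  have hxX : x ∈ XS t j J e f := subset_closure ⟨ρ, hρ, hρe, hρf, hx⟩
  rcases h.XS_le_or S.F h' hcard he hf hef (S.nsw e f J he hf hef h) (S.nsw f e J' hf he hef.symm h') with h1 | h1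
  · left
    exact (h'.lift_unique hs' ⟨h1 hxX, hx.cube, hx.eq⟩ hy).symm
  · right
    have h2 := Good.Lift.tconj S.F h' hs' hy
    have h3 := (h'.symm S.F hs').lift_unique hs' ⟨h1 hxX, hx.cube, hx.eq⟩ h2
    rw [h3, S.F.ttx]

theorem disj_swap {a : Perm α} {x y : α} (hx : a x = x) (hy : a y = y) : Perm.Disjoint a (swap x y) := by
  intro z
  by_cases h1 : z = x
  · left; rw [h1, hx]
  · by_cases h2 : z = y
    · left; rw [h2, hy]
    · right; exact swap_apply_of_ne_of_ne h1 h2

theorem exists_swap_out (s : Finset α) (hs : s.card + 2 ≤ Fintype.card α) :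
    ∃ x y, x ≠ y ∧ x ∉ s ∧ y ∉ s := by
  obtain ⟨x, hx⟩ := exists_new s (by omega)
  obtain ⟨y, hy⟩ := exists_new (insert x s) (by
    have := Finset.card_insert_le x s
    omega)
  simp only [Finset.mem_insert, not_or] at hy
  exact ⟨x, y, Ne.symm hy.1, hx, hy.2⟩

theorem exists_third {e f ρ : Perm α} (hcard : 9 ≤ Fintype.card α) (he : e.IsSwap) (hf : f.IsSwap)
    (hρ : ρ.IsThreeCycle) : ∃ g : Perm α, g.IsSwap ∧ Perm.Disjoint ρ g ∧ Perm.Disjoint e g ∧ Perm.Disjoint f g := by
  obtain ⟨x, y, hxy, hx, hy⟩ := exists_swap_out (ρ.support ∪ (e.support ∪ f.support)) (by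
    have h1 := Finset.card_union_le ρ.support (e.support ∪ f.support)
    have h2 := Finset.card_union_le e.support f.support
    have h3 : e.support.card = 2 := Perm.card_support_eq_two.2 he
    have h4 : f.support.card = 2 := Perm.card_support_eq_two.2 hf
    have h5 : ρ.support.card = 3 := hρ.card_support
    omega)
  simp only [Finset.mem_union, Perm.mem_support, not_or, not_not] at hx hy
  exact ⟨swap x y, ⟨x, y, hxy, rfl⟩, disj_swap hx.1 hy.1, disj_swap hx.2.1 hy.2.1, disj_swap hx.2.2 hy.2.2⟩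

theorem Sys.lift_eq [Finite G] (S : Sys t j) (hcard : 9 ≤ Fintype.card α) {ρ : Perm α}
    (hρ : ρ.IsThreeCycle) {x y : G} (hx : IsLift t j ρ x) (hy : IsLift t j ρ y) : y = x ∨ y = t * x * t⁻¹ := by
  obtain ⟨e, J, he, hρe, h, hx⟩ := hx
  obtain ⟨f, J', hf, hρf, h', hy⟩ := hy
  obtain ⟨g, hg, hρg, heg, hfg⟩ := exists_third hcard he hf hρ
  obtain ⟨M, hM⟩ := S.ex g hg
  obtain ⟨z, hz⟩ := hM.exists_lift (S.F.comm g) hρ.sign hρg (three_cube hρ)
  rcases S.two hcard he hg heg h hM hρ hρe hρg hx hz with h1 | h1 <;>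
  rcases S.two hcard hf hg hfg h' hM hρ hρf hρg hy hz with h2 | h2
  · left; rw [← h2, h1]
  · right
    have : y = t * z * t⁻¹ := by rw [h2, S.F.ttx]
    rw [this, h1]
  · right; rw [← h2, h1]
  · left
    have h3 : t * x * t⁻¹ = t * y * t⁻¹ := by rw [← h1, h2]
    have h4 := mul_left_cancel (mul_right_cancel h3)
    exact h4.symm

end Cfsg.Agent.OddHalf.D5.SymLab
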