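import Mathlib

/-!
# Permutations through an embedding `Fin m ↪ α`
-/

set_option autoImplicit false
set_option linter.unusedSectionVars false

namespace Cfsg.Agent.OddHalf.D5.SymLab

open Equiv Equiv.Perm

variable {α : Type*} [Fintype α] [DecidableEq α] {m : ℕ}

/-- the permutations of `Fin m` on `α` -/
noncomputable def Em (q : Fin m ↪ α) : Perm (Fin m) →* Perm α := Perm.viaEmbeddingHom q

theorem Em_app (q : Fin m ↪ α) (u : Perm (Fin m)) (i : Fin m) : Em q u (q i) = q (u i) :=
  Perm.viaEmbedding_apply u q i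

theorem Em_out (q : Fin m ↪ α) (u : Perm (Fin m)) {x : α} (h : ∀ i, x ≠ q i) : Em q u x = x :=
  Perm.viaEmbedding_apply_of_notMem u q x (by rintro ⟨i, hi⟩; exact h i hi.symm)

theorem Em_inj (q : Fin m ↪ α) : Function.Injective (Em q) := Perm.viaEmbeddingHom_injective q

theorem Em_swap (q : Fin m ↪ α) (i k : Fin m) : Em q (swap i k) = swap (q i) (q k) := by
  ext x
  by_cases h : ∃ l, x = q l
  · obtain ⟨l, rfl⟩ := h
    rw [Em_app]
    by_cases h1 : l = i
    · rw [h1, swap_apply_left, swap_apply_left]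
    · by_cases h2 : l = k
      · rw [h2, swap_apply_right, swap_apply_right]
      · rw [swap_apply_of_ne_of_ne h1 h2,
          swap_apply_of_ne_of_ne (q.injective.ne h1) (q.injective.ne h2)]
  · push Not at h
    rw [Em_out q _ h, swap_apply_of_ne_of_ne (h i) (h k)]

theorem sign_Em (q : Fin m ↪ α) (u : Perm (Fin m)) : Perm.sign (Em q u) = Perm.sign u := by
  let _ : DecidablePred (fun x => x ∈ Set.range q) := fun _ => Classical.propDecidable _
  have h2 := Perm.sign_extendDomain u (Equiv.ofInjective q q.injective)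
  rw [← h2]
  rfl

theorem disj_Em (q : Fin m ↪ α) {u v : Perm (Fin m)} (h : Perm.Disjoint u v) :
    Perm.Disjoint (Em q u) (Em q v) := by
  intro x
  by_cases hx : ∃ l, x = q l
  · obtain ⟨l, rfl⟩ := hx
    rw [Em_app, Em_app]
    rcases h l with h | h
    · left; rw [h]
    · right; rw [h]
  · push Not at hx
    left; exact Em_out q _ hx

/-- `x ↦ z ↦ y ↦ x` -/
def c3 (x y z : α) : Perm α := swap x y * swap x z

theorem Em_c3 (q : Fin m ↪ α) (i k l : Fin m) : Em q (c3 i k l) = c3 (q i) (q k) (q l) := by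
  unfold c3; rw [map_mul, Em_swap, Em_swap]

theorem sign_c3 {x y z : α} (h1 : x ≠ y) (h2 : x ≠ z) : Perm.sign (c3 x y z) = 1 := by
  unfold c3; rw [Perm.sign_mul, sign_swap h1, sign_swap h2]; decide

/-- one more letter -/
theorem exists_snoc {k : ℕ} (p : Fin k ↪ α) (h : k < Fintype.card α) :
    ∃ q : Fin (k + 1) ↪ α, ∀ i : Fin k, q i.castSucc = p i := by
  have h1 : ∃ x, x ∉ Finset.univ.map p := by
    by_contra hcon
    push Not at hcon
    have h2 : Finset.univ.map p = (Finset.univ : Finset α) := Finset.eq_univ_iff_forall.2 hcon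
    have h3 := congrArg Finset.card h2
    rw [Finset.card_map, Finset.card_univ, Finset.card_univ, Fintype.card_fin] at h3
    omega
  obtain ⟨x, hx⟩ := h1
  have hx' : x ∉ Set.range p := by
    rintro ⟨i, rfl⟩
    exact hx (Finset.mem_map_of_mem _ (Finset.mem_univ _))
  refine ⟨⟨Fin.snoc (α := fun _ => α) p x, Fin.snoc_injective_of_injective p.injective hx'⟩, fun i => ?_⟩
  exact Fin.snoc_castSucc (α := fun _ => α) x p i

/-- extension of an embedding -/
theorem exists_ext {k : ℕ} (p : Fin k ↪ α) {l : ℕ} (hk : k ≤ l) (h : l ≤ Fintype.card α) :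
    ∃ q : Fin l ↪ α, ∀ i : Fin k, q (Fin.castLE hk i) = p i := by
  induction l, hk using Nat.le_induction with
  | base => exact ⟨p, fun i => rfl⟩
  | succ l hl ih =>
    obtain ⟨q, hq⟩ := ih (by omega)
    obtain ⟨q', hq'⟩ := exists_snoc q (by omega)
    refine ⟨q', fun i => ?_⟩
    rw [← hq i, ← hq']
    rfl

/-- a new letter -/
theorem exists_new (s : Finset α) (h : s.card < Fintype.card α) : ∃ x, x ∉ s := by
  by_contra hcon
  push Not at hcon
  have h2 : s = (Finset.univ : Finset α) := Finset.eq_univ_iff_forall.2 hcon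
  rw [h2, Finset.card_univ] at h
  exact lt_irrefl _ h

theorem apply_of_disj {a f : Perm α} (h : Perm.Disjoint a f) {x : α} (hx : f x ≠ x) : a x = x :=
  (h x).resolve_right hx

/-- an element commuting with the even permutations outside of the transposition `f` fixes the letters outside -/
theorem fix_out (h6 : 6 ≤ Fintype.card α) {f a : Perm α} (hf : f.IsSwap)
    (ha : ∀ b, Perm.sign b = 1 → Perm.Disjoint b f → a * b = b * a) {x : α} (hx : f x = x) : a x = x := by
  by_contra hne
  obtain ⟨p, r, hpr, rfl⟩ := hf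
  obtain ⟨z, hz⟩ := exists_new {p, r, x, a x} (by
    have : ({p, r, x, a x} : Finset α).card ≤ 4 := Finset.card_le_four
    omega)
  obtain ⟨w, hw⟩ := exists_new {p, r, x, a x, z} (by
    have : ({p, r, x, a x, z} : Finset α).card ≤ 5 := Finset.card_le_five
    omega)
  simp only [Finset.mem_insert, Finset.mem_singleton, not_or] at hz hw
  obtain ⟨hzp, hzr, hzx, hza⟩ := hz
  obtain ⟨hwp, hwr, hwx, hwa, hwz⟩ := hw
  have hxp : x ≠ p := by
    rintro rfl
    rw [swap_apply_left] at hx
    exact hpr hx.symm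
  have hxr : x ≠ r := by
    rintro rfl
    rw [swap_apply_right] at hx
    exact hpr hx
  have h1 := ha (c3 x z w) (sign_c3 (Ne.symm hzx) (Ne.symm hwx)) (by
    intro y
    by_cases h1 : y = p
    · left
      rw [h1]
      unfold c3
      rw [Perm.mul_apply, swap_apply_of_ne_of_ne hxp.symm (Ne.symm hwp),
        swap_apply_of_ne_of_ne hxp.symm (Ne.symm hzp)]
    · by_cases h2 : y = r
      · left
        rw [h2]
        unfold c3
        rw [Perm.mul_apply, swap_apply_of_ne_of_ne hxr.symm (Ne.symm hwr),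
          swap_apply_of_ne_of_ne hxr.symm (Ne.symm hzr)]
      · right
        exact swap_apply_of_ne_of_ne h1 h2)
  have h2 := congrArg (fun u : Perm α => u w) h1
  -- `c3 x z w : w ↦ x? `
  have e1 : c3 x z w w = z := by
    unfold c3
    rw [Perm.mul_apply, swap_apply_right, swap_apply_left]
  have e2 : c3 x z w x = w := by
    unfold c3
    rw [Perm.mul_apply, swap_apply_left, swap_apply_of_ne_of_ne hwx hwz]
  have e3 : c3 x z w (a x) = a x := by
    unfold c3
    rw [Perm.mul_apply, swap_apply_of_ne_of_ne hne (Ne.symm hwa), swap_apply_of_ne_of_ne hne (Ne.symm hza)]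
  have h3 := congrArg (fun u : Perm α => u x) h1
  simp only [Perm.mul_apply] at h3
  rw [e2, e3] at h3
  exact hwx (a.injective h3)

/-- ... hence it is `1` if disjoint from `f` -/
theorem eq_one_of_comm (h6 : 6 ≤ Fintype.card α) {f a : Perm α} (hf : f.IsSwap)
    (ha : ∀ b, Perm.sign b = 1 → Perm.Disjoint b f → a * b = b * a) (haf : Perm.Disjoint a f) : a = 1 := by
  ext x
  rcases haf x with h | h
  · rw [h]; rfl
  · rw [fix_out h6 hf ha h]; rfl

/-- ... hence it is `1` or `f` -/
theorem eq_one_or (h6 : 6 ≤ Fintype.card α) {f a : Perm α} (hf : f.IsSwap)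
    (ha : ∀ b, Perm.sign b = 1 → Perm.Disjoint b f → a * b = b * a) : a = 1 ∨ a = f := by
  have hf' := hf
  obtain ⟨p, r, hpr, rfl⟩ := hf
  have h1 : ∀ x, x ≠ p → x ≠ r → a x = x := fun x hp hr =>
    fix_out h6 hf' ha (swap_apply_of_ne_of_ne hp hr)
  by_cases hp : a p = p
  · left
    have hr : a r = r := by
      by_contra hne
      by_cases h2 : a r = p
      · rw [← hp] at h2
        exact hpr (a.injective h2).symm
      · exact hne (a.injective (h1 (a r) h2 hne))
    ext x
    by_cases hxp : x = p
    · rw [hxp, hp]; rfl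
    · by_cases hxr : x = r
      · rw [hxr, hr]; rfl
      · rw [h1 x hxp hxr]; rfl
  · right
    have hpr' : a p = r := by
      by_contra hne
      exact hp (a.injective (h1 (a p) hp hne))
    have hrp : a r = p := by
      by_contra hne
      by_cases h2 : a r = r
      · rw [← hpr'] at h2
        exact hpr (a.injective (by rw [hpr']; rw [hpr'] at h2; exact h2.symm ▸ rfl))
      · exact h2 (a.injective (h1 (a r) hne h2))
    ext x
    by_cases hxp : x = p
    · rw [hxp, hpr', swap_apply_left]
    · by_cases hxr : x = r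
      · rw [hxr, hrp, swap_apply_right]
      · rw [h1 x hxp hxr, swap_apply_of_ne_of_ne hxp hxr]

end Cfsg.Agent.OddHalf.D5.SymLab
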