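import Cfsg.Agent.OddHalf.D5.SymLab.End
import Cfsg.Agent.OddHalf.D5.Sym.Main
import Cfsg.Agent.OddHalf.Soft

/-!
# ODD D5, `C_G(t) = ⟨t⟩ × S_n`, `n ≥ 9`: `EndHyp`
-/

set_option autoImplicit false
set_option linter.unusedSectionVars false

namespace Cfsg.Agent.OddHalf.D5.SymLab

open Subgroup Equiv Cfsg Cfsg.Agent.OddHalf.D3 Cfsg.Agent.OddHalf.NI

universe u

variable {G : Type u} [Group G] {n : ℕ}

theorem mem_FA_iff {e a : Perm (Fin n)} : a ∈ Sym.FA e ↔ Perm.sign a = 1 ∧ Perm.Disjoint a e := by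
  rw [Sym.mem_FA]
  constructor
  · rintro ⟨h1, h2⟩
    refine ⟨h1, fun x => ?_⟩
    by_cases hx : e x = x
    · exact Or.inr hx
    · exact Or.inl (h2 x hx)
  · rintro ⟨h1, h2⟩
    exact ⟨h1, fun x hx => (h2 x).resolve_right hx⟩

theorem good_of_goodJ [Finite G] {t s : G} {j : Perm (Fin n) →* G} {e : Perm (Fin n)} {J : Subgroup G}
    (hO : centralizerPPrimeCore 2 s = ⊥) (H : Sym.GoodJ t j e s J) : Good t j s e J where
  comp := H.comp
  ne := H.dg.ne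
  mem := by
    intro d hd
    obtain ⟨a, ha, ha'⟩ := H.dg.mem d hd
    exact ⟨a, (mem_FA_iff.1 ha).1, (mem_FA_iff.1 ha).2, ha'.symm⟩
  ex := by
    intro a h1 h2
    obtain ⟨d, hd, hd'⟩ := H.dg.ex (j a) ⟨a, mem_FA_iff.2 ⟨h1, h2⟩, rfl⟩
    exact ⟨d, hd, hd'.symm⟩
  z3 := by
    intro z hz hc h3
    have h1 : IsPGroup 2 ↥(center ↥J) := Soft.CompOf.center_isPGroup hO ⟨H.comp.le, H.comp.comp⟩
    have hzc : (⟨z, hz⟩ : J) ∈ center J := by
      rw [mem_center_iff]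
      intro y
      exact Subtype.ext (hc y.1 y.2).symm
    obtain ⟨k, hk⟩ := h1 ⟨⟨z, hz⟩, hzc⟩
    have hk' : z ^ 2 ^ k = 1 := congrArg (fun u : center J => ((u : J) : G)) hk
    have h4 : orderOf z ∣ 2 ^ k := orderOf_dvd_of_pow_eq_one hk'
    have h5 : orderOf z ∣ 3 := orderOf_dvd_of_pow_eq_one h3
    have h6 : Nat.Coprime (2 ^ k) 3 := Nat.Coprime.pow_left k (by decide)
    have h7 : orderOf z ∣ 1 := by
      have := Nat.dvd_gcd h4 h5
      rwa [h6] at this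
    exact orderOf_eq_one_iff.1 (Nat.dvd_one.1 h7)

theorem pumpT [Finite G] (hbal : ∀ t : G, orderOf t = 2 → centralizerPPrimeCore 2 t = ⊥) (hB : BL G)
    {t : G} {j : Perm (Fin n) →* G} (h : Sym.Sp t j) (hn : 9 ≤ n)
    (hmax : ∀ (s : G) (D : Subgroup G), orderOf s = 2 → Comp s D → ¬ Iface.IsL2o ↥D →
      2 * Nat.card D ≤ n.factorial) {f : Perm (Fin n)} (hf : f.IsSwap) : PumpT t j f := by
  intro g k hg kk hkf k4 gt hD
  obtain ⟨p, q, hpq, rfl⟩ := hf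
  have ho := h.order_s hpq (Or.inr rfl)
  obtain ⟨D, hDc, hcase⟩ := h.pump hB (by omega) hpq (Or.inr rfl)
  have hk : ∀ a, swap p q a ≠ a → k a = a := fun a ha => (hkf a).resolve_right ha
  have key : ∀ hle : Sym.LL j (swap p q) ≤ D, False := by
    intro hle
    refine h.no_big hn hpq (fun hL => hmax _ D ho hDc hL) hle (hD D hDc ?_) gt kk k4 hk
    intro a h1 h2
    exact hle ⟨a, mem_FA_iff.2 ⟨h1, h2⟩, rfl⟩
  rcases hcase with h1 | ⟨h1, -⟩ | h1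
  · exact absurd (key h1.le) (fun h => h)
  · exact absurd (key h1.le) (fun h => h)
  · exact ⟨D, good_of_goodJ (hbal _ ho) ⟨hDc, h1⟩⟩

/-- **END** (`n ≥ 9`) -/
theorem endHyp : Sym.EndHyp.{u} := by
  intro G _ _ n t j hn C hB hmax h hJ
  have h1 := h.spl
  have e : Sym.jj (Sym.jι j) = j := MonoidHom.ext fun a => rfl
  obtain ⟨K₁, hK⟩ := exists_two hn h1 (by
    rintro _ ⟨p, q, hpq, rfl⟩
    rw [e]
    obtain ⟨J, H⟩ := hJ p q hpq
    have ho := h.order_s hpq (Or.inl rfl)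
    rw [one_mul] at ho
    exact ⟨J, good_of_goodJ (C.bal _ ho) H⟩) (by
    intro f hf
    rw [e]
    exact pumpT C.bal hB h hn hmax hf)
  exact ⟨K₁, hK⟩

end Cfsg.Agent.OddHalf.D5.SymLab
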