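import Cfsg.Agent.OddHalf.D5.SymLab.Xgrp

/-!
# A transposition `f` disjoint from `e` normalises `J`
-/

set_option autoImplicit false
set_option linter.unusedSectionVars false

namespace Cfsg.Agent.OddHalf.D5.SymLab

open Subgroup Equiv Cfsg Cfsg.Agent.OddHalf.D3
open scoped commutatorElement

variable {G : Type*} [Group G] {α : Type*} [Fintype α] [DecidableEq α]
variable {t s : G} {j : Perm α →* G} {e f : Perm α} {J : Subgroup G}

theorem disj_mul {a b c : Perm α} (h1 : Perm.Disjoint a c) (h2 : Perm.Disjoint b c) :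
    Perm.Disjoint (a * b) c := Perm.Disjoint.mul_left h1 h2

theorem disj_inv {a c : Perm α} (h1 : Perm.Disjoint a c) : Perm.Disjoint a⁻¹ c := Perm.Disjoint.inv_left h1

/-- `x x^t` for `x ∈ X` -/
theorem Good.pr_XS (h : Good t j s e J) (hs : t * s = s * t) : ∀ x ∈ XS t j J e f,
    ∃ a, Perm.sign a = 1 ∧ Perm.Disjoint a e ∧ Perm.Disjoint a f ∧ x * (t * x * t⁻¹) = j a := by
  intro x hx
  suffices hh : ∃ hxJ : x ∈ J, ∃ a, Perm.sign a = 1 ∧ Perm.Disjoint a e ∧ Perm.Disjoint a f ∧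
      h.pr hs ⟨x, hxJ⟩ = j a by
    obtain ⟨hxJ, a, h1, h2, h3, h4⟩ := hh
    exact ⟨a, h1, h2, h3, h4⟩
  unfold XS at hx
  induction hx using closure_induction with
  | mem x hx =>
    obtain ⟨ρ, h1, h2, h3, h4⟩ := hx
    exact ⟨h4.mem, ρ, Perm.IsThreeCycle.sign h1, h2, h3, h4.eq⟩
  | one => exact ⟨J.one_mem, 1, Perm.sign_one, Perm.disjoint_one_left _, Perm.disjoint_one_left _, by
      have : (⟨1, J.one_mem⟩ : J) = 1 := rfl
      rw [this, map_one, map_one]⟩
  | mul x y _ _ ihx ihy =>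
    obtain ⟨hxJ, a, h1, h2, h3, h4⟩ := ihx
    obtain ⟨hyJ, b, h5, h6, h7, h8⟩ := ihy
    refine ⟨J.mul_mem hxJ hyJ, a * b, by rw [Perm.sign_mul, h1, h5, one_mul], disj_mul h2 h6, disj_mul h3 h7, ?_⟩
    have : (⟨x * y, J.mul_mem hxJ hyJ⟩ : J) = ⟨x, hxJ⟩ * ⟨y, hyJ⟩ := rfl
    rw [this, map_mul, h4, h8, map_mul]
  | inv x _ ihx =>
    obtain ⟨hxJ, a, h1, h2, h3, h4⟩ := ihx
    refine ⟨J.inv_mem hxJ, a⁻¹, by rw [Perm.sign_inv, h1], disj_inv h2, disj_inv h3, ?_⟩
    have : (⟨x⁻¹, J.inv_mem hxJ⟩ : J) = ⟨x, hxJ⟩⁻¹ := rfl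
    rw [this, map_inv, h4, map_inv]

/-- eight letters -/
theorem exists_eight (hcard : 8 ≤ Fintype.card α) (he : e.IsSwap) (hf : f.IsSwap)
    (hef : Perm.Disjoint e f) : ∃ q : Fin 8 ↪ α, e = Em q (swap 0 1) ∧ f = Em q (swap 2 3) := by
  obtain ⟨a, b, hab, rfl⟩ := he
  obtain ⟨c, d, hcd, rfl⟩ := hf
  have hc : swap a b c = c := by
    rcases hef c with h | h
    · exact h
    · rw [swap_apply_left] at h; exact absurd h.symm hcd
  have hd : swap a b d = d := by
    rcases hef d with h | h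
    · exact h
    · rw [swap_apply_right] at h; exact absurd h hcd
  have hca : c ≠ a := by
    rintro rfl
    rw [swap_apply_left] at hc; exact hab hc.symm
  have hcb : c ≠ b := by
    rintro rfl
    rw [swap_apply_right] at hc; exact hab hc
  have hda : d ≠ a := by
    rintro rfl
    rw [swap_apply_left] at hd; exact hab hd.symm
  have hdb : d ≠ b := by
    rintro rfl
    rw [swap_apply_right] at hd; exact hab hd
  let p : Fin 4 → α := ![a, b, c, d]
  have hp : Function.Injective p := by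
    intro i k hik
    fin_cases i <;> fin_cases k <;> simp [p] at hik ⊢ <;> first | exact hik | (exfalso; first
      | exact hab hik | exact hab hik.symm | exact hcd hik | exact hcd hik.symm | exact hca hik
      | exact hca hik.symm | exact hcb hik | exact hcb hik.symm | exact hda hik | exact hda hik.symm
      | exact hdb hik | exact hdb hik.symm)
  obtain ⟨q, hq⟩ := exists_ext ⟨p, hp⟩ (show 4 ≤ 8 by norm_num) hcard
  refine ⟨q, ?_, ?_⟩
  · rw [Em_swap]
    have h0 := hq 0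
    have h1 := hq 1
    change q 0 = a at h0
    change q 1 = b at h1
    rw [h0, h1]
  · rw [Em_swap]
    have h0 := hq 2
    have h1 := hq 3
    change q 2 = c at h0
    change q 3 = d at h1
    rw [h0, h1]

/-! identities in `Perm (Fin 8)` -/

theorem p8_v : (c3 4 5 6 : Perm (Fin 8)) * c3 4 7 6 = swap 4 5 * swap 6 7 := by unfold c3; decide +kernel

theorem p8_v3 : (swap 4 5 * swap 6 7 : Perm (Fin 8)) * (c3 4 5 6 * (swap 4 5 * swap 6 7) * (c3 4 5 6)⁻¹) =
    c3 4 5 6 * (c3 4 5 6 * (swap 4 5 * swap 6 7) * (c3 4 5 6)⁻¹) * (c3 4 5 6)⁻¹ := by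
  unfold c3; decide +kernel

theorem p8_sq : (swap 4 5 * swap 6 7 : Perm (Fin 8)) * (swap 4 5 * swap 6 7) = 1 := by decide +kernel

theorem p8_sw1 : (swap 0 2 * swap 1 3 : Perm (Fin 8)) * swap 0 1 * (swap 0 2 * swap 1 3)⁻¹ = swap 2 3 := by
  decide +kernel

theorem p8_sw2 : (swap 0 2 * swap 1 3 : Perm (Fin 8)) * swap 2 3 * (swap 0 2 * swap 1 3)⁻¹ = swap 0 1 := by
  decide +kernel

theorem p8_sw3 : (swap 0 2 * swap 1 3 : Perm (Fin 8)) * (swap 4 5 * swap 6 7) * (swap 0 2 * swap 1 3)⁻¹ =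
    swap 4 5 * swap 6 7 := by decide +kernel

theorem abs_four {H : Type*} [Group H] {R X1 μ : H} (hR3 : R ^ 3 = 1) (hμc : ∀ u : H, μ * u = u * μ)
    (c1 : X1 * (R * X1 * R⁻¹) = R * (R * X1 * R⁻¹) * R⁻¹ * μ)
    (hYc : ∀ u : H, ((X1 * μ⁻¹) * (X1 * μ⁻¹)) * u = u * ((X1 * μ⁻¹) * (X1 * μ⁻¹))) :
    ((X1 * μ⁻¹) * (X1 * μ⁻¹)) * ((X1 * μ⁻¹) * (X1 * μ⁻¹)) = 1 := by
  have hμi : ∀ u : H, μ⁻¹ * u = u * μ⁻¹ := by
    intro u
    rw [inv_mul_eq_iff_eq_mul, ← mul_assoc, hμc, mul_assoc, mul_inv_cancel, mul_one]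
  have hR4 : R * (R * (R * X1 * R⁻¹) * R⁻¹) * R⁻¹ = X1 := by
    have : R * (R * (R * X1 * R⁻¹) * R⁻¹) * R⁻¹ = R ^ 3 * X1 * (R ^ 3)⁻¹ := by
      simp only [pow_succ, pow_zero, one_mul]; group
    rw [this, hR3, inv_one, one_mul, mul_one]
  -- conjugating twice
  have c2 : (R * (R * X1 * R⁻¹) * R⁻¹) * X1 = (R * X1 * R⁻¹) * μ := by
    have d1 : R * (R * (X1 * (R * X1 * R⁻¹)) * R⁻¹) * R⁻¹ =
        R * (R * (R * (R * X1 * R⁻¹) * R⁻¹ * μ) * R⁻¹) * R⁻¹ := by rw [c1]
    have d2 : R * (R * (X1 * (R * X1 * R⁻¹)) * R⁻¹) * R⁻¹ =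
        (R * (R * X1 * R⁻¹) * R⁻¹) * (R * (R * (R * X1 * R⁻¹) * R⁻¹) * R⁻¹) := by group
    have d3 : R * (R * (R * (R * X1 * R⁻¹) * R⁻¹ * μ) * R⁻¹) * R⁻¹ =
        R * (R * (R * (R * X1 * R⁻¹) * R⁻¹) * R⁻¹) * R⁻¹ * μ := by
      have d4 : ∀ u : H, R * (u * μ) * R⁻¹ = R * u * R⁻¹ * μ := by
        intro u
        calc R * (u * μ) * R⁻¹ = R * u * (μ * R⁻¹) := by group
          _ = R * u * R⁻¹ * μ := by rw [hμc]; group
      rw [d4, d4]
    rw [d2, d3, hR4] at d1
    exact d1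
  have c3' : (X1 * μ⁻¹) * ((R * X1 * R⁻¹) * μ⁻¹) * (X1 * μ⁻¹) = (R * X1 * R⁻¹) * μ⁻¹ := by
    calc (X1 * μ⁻¹) * ((R * X1 * R⁻¹) * μ⁻¹) * (X1 * μ⁻¹)
        = X1 * (μ⁻¹ * (R * X1 * R⁻¹)) * (μ⁻¹ * X1) * μ⁻¹ := by group
      _ = X1 * (R * X1 * R⁻¹) * μ⁻¹ * (μ⁻¹ * X1) * μ⁻¹ := by rw [hμi (R * X1 * R⁻¹)]; group
      _ = (R * (R * X1 * R⁻¹) * R⁻¹) * (μ⁻¹ * X1) * μ⁻¹ := by rw [c1]; group
      _ = (R * (R * X1 * R⁻¹) * R⁻¹) * X1 * μ⁻¹ * μ⁻¹ := by rw [hμi X1]; group
      _ = (R * X1 * R⁻¹) * μ⁻¹ := by rw [c2]; group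
  have e1 : (R * X1 * R⁻¹) * μ⁻¹ = (R * X1 * R⁻¹) * μ⁻¹ *
      (((X1 * μ⁻¹) * (X1 * μ⁻¹)) * ((X1 * μ⁻¹) * (X1 * μ⁻¹))) := by
    calc (R * X1 * R⁻¹) * μ⁻¹ = (X1 * μ⁻¹) * ((R * X1 * R⁻¹) * μ⁻¹) * (X1 * μ⁻¹) := c3'.symm
      _ = (X1 * μ⁻¹) * ((X1 * μ⁻¹) * ((R * X1 * R⁻¹) * μ⁻¹) * (X1 * μ⁻¹)) * (X1 * μ⁻¹) := by
          conv_rhs => rw [c3']
      _ = ((X1 * μ⁻¹) * (X1 * μ⁻¹)) * ((R * X1 * R⁻¹) * μ⁻¹) * ((X1 * μ⁻¹) * (X1 * μ⁻¹)) := by group
      _ = _ := by rw [hYc]; group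
  exact mul_eq_left.1 e1.symm

/-- a lift `x ∈ X` of the double transposition with `x^4 = 1` -/
theorem Good.exists_four [Finite G] (h : Good t j s e J) (hs : t * s = s * t) (q : Fin 8 ↪ α)
    (he : e = Em q (swap 0 1)) (hf : f = Em q (swap 2 3)) :
    ∃ x ∈ XS t j J e f, x * (t * x * t⁻¹) = j (Em q (swap 4 5 * swap 6 7)) ∧
      (x * x) * (x * x) = 1 ∧ ∀ u ∈ J, (x * x) * u = u * (x * x) := by
  have key : ∀ i k l : Fin 8, i ≠ k → i ≠ l → k ≠ l → Perm.Disjoint (c3 i k l) (swap (0 : Fin 8) 1) →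
      Perm.Disjoint (c3 i k l) (swap (2 : Fin 8) 3) →
      ∃ x ∈ XS t j J e f, Good.Lift t j J (Em q (c3 i k l)) x := by
    intro i k l h1 h2 h3 h4 h5
    have h6 := Em_three q (three_c3 h1 h2 h3)
    obtain ⟨x, hx⟩ := h.exists_lift hs (a := Em q (c3 i k l)) (Perm.IsThreeCycle.sign h6)
      (by rw [he]; exact disj_Em q h4) (three_cube h6)
    exact ⟨x, subset_closure ⟨_, h6, by rw [he]; exact disj_Em q h4, by rw [hf]; exact disj_Em q h5, hx⟩, hx⟩
  obtain ⟨r, hrX, hr⟩ := key 4 5 6 (by decide) (by decide) (by decide)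
    (by unfold c3 Perm.Disjoint; decide +kernel) (by unfold c3 Perm.Disjoint; decide +kernel)
  obtain ⟨b, hbX, hb⟩ := key 4 7 6 (by decide) (by decide) (by decide)
    (by unfold c3 Perm.Disjoint; decide +kernel) (by unfold c3 Perm.Disjoint; decide +kernel)
  have hle := XS_le t j J e f
  set R : J := ⟨r, hr.mem⟩ with hR
  set B : J := ⟨b, hb.mem⟩ with hB
  have hpR : h.pr hs R = j (Em q (c3 4 5 6)) := hr.eq
  have hpB : h.pr hs B = j (Em q (c3 4 7 6)) := hb.eq
  have hR3 : R ^ 3 = 1 := Subtype.ext hr.cube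
  set v : Perm α := Em q (swap 4 5 * swap 6 7) with hv
  set X1 : J := R * B with hX1
  have hpX1 : h.pr hs X1 = j v := by rw [map_mul, hpR, hpB, ← map_mul, ← map_mul, p8_v]
  set X2 : J := R * X1 * R⁻¹ with hX2
  set X3 : J := R * X2 * R⁻¹ with hX3
  set μ : J := X3⁻¹ * (X1 * X2) with hμ
  have hpμ : h.pr hs μ = 1 := by
    have e1 : h.pr hs (X1 * X2) = h.pr hs X3 := by
      have e4 := congrArg (j.comp (Em q)) p8_v3
      rw [hX3, hX2]
      simp only [map_mul, map_inv, MonoidHom.comp_apply] at e4 ⊢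
      rw [hpX1, hpR, hv]
      simp only [map_mul]
      exact e4
    rw [hμ, map_mul, map_inv, e1, inv_mul_cancel]
  have hμc : ∀ u : J, μ * u = u * μ := by
    intro u
    exact Subtype.ext (h.central hs μ.2 hpμ u.2)
  have c1 : X1 * X2 = X3 * μ := by rw [hμ, mul_inv_cancel_left]
  set Y1 : J := X1 * μ⁻¹ with hY1
  have hpY : h.pr hs (Y1 * Y1) = 1 := by
    have e1 : h.pr hs Y1 = j v := by rw [hY1, map_mul, map_inv, hpμ, inv_one, mul_one, hpX1]
    rw [map_mul, e1, ← map_mul, hv, ← map_mul, p8_sq, map_one, map_one]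
  have hYc : ∀ u : J, (Y1 * Y1) * u = u * (Y1 * Y1) := fun u =>
    Subtype.ext (h.central hs (Y1 * Y1).2 hpY u.2)
  have hY4 : (Y1 * Y1) * (Y1 * Y1) = 1 := abs_four hR3 hμc c1 hYc
  refine ⟨Y1, ?_, ?_, congrArg Subtype.val hY4, fun u hu => congrArg Subtype.val (hYc ⟨u, hu⟩)⟩
  · have m1 : (X1 : G) ∈ XS t j J e f := mul_mem hrX hbX
    have m2 : (X2 : G) ∈ XS t j J e f := mul_mem (mul_mem hrX m1) (inv_mem hrX)
    have m3 : (X3 : G) ∈ XS t j J e f := mul_mem (mul_mem hrX m2) (inv_mem hrX)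
    have m4 : (μ : G) ∈ XS t j J e f := mul_mem (inv_mem m3) (mul_mem m1 m2)
    exact mul_mem m1 (inv_mem m4)
  · have e1 : h.pr hs Y1 = j v := by rw [hY1, map_mul, map_inv, hpμ, inv_one, mul_one, hpX1]
    exact e1

/-- an involution `z` of `J`, `z z^t = 1`, is `j e` -/
theorem Good.invol (F : Fr t j) (h6 : 6 ≤ Fintype.card α) (h : Good t j (j e) e J) (he : e.IsSwap) {z : G}
    (hz : z ∈ J) (hz1 : z * (t * z * t⁻¹) = 1) (hzz : z * z = 1) : z = 1 ∨ z = j e := by
  have hs : t * j e = j e * t := F.comm e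
  have hzi : z⁻¹ = z := inv_eq_of_mul_eq_one_left hzz
  have h1 : t * z * t⁻¹ = z := by
    rw [← inv_eq_of_mul_eq_one_right hz1, hzi]
  have h2 : z * t = t * z := by
    calc z * t = (t * z * t⁻¹) * t := by rw [h1]
      _ = t * z := by group
  have hc := fun u hu => h.central hs hz hz1 (y := u) hu
  have hcb : ∀ b, Perm.sign b = 1 → Perm.Disjoint b e → z * j b = j b * z := by
    intro b hb hbe
    obtain ⟨d, hd, hdb⟩ := h.ex b hb hbe
    have e1 := hc d hd
    have e2 : z * (t * d * t⁻¹) = (t * d * t⁻¹) * z := by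
      have e3 := h.comm hs hz hd
      exact e3
    rw [← hdb, ← mul_assoc, e1, mul_assoc, e2, ← mul_assoc]
  obtain ⟨a, ha⟩ := F.cent z h2
  have hae : a = 1 ∨ a = e := by
    apply eq_one_or h6 he
    intro b hb hbe
    apply F.inj
    have e1 := hcb b hb hbe
    rw [map_mul, map_mul]
    rcases ha with ha | ha
    · rw [ha] at e1; exact e1
    · rw [ha] at e1
      have e2 : t * (j a * j b) = t * (j b * j a) := by
        rw [← mul_assoc, e1, ← mul_assoc, ← F.comm]; group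
      exact mul_left_cancel e2
  rcases ha with ha | ha
  · rcases hae with h3 | h3
    · left; rw [ha, h3, map_one]
    · right; rw [ha, h3]
  · exfalso
    apply h.ne
    have e1 : cj z J = J := cj_eq_of_mem hz
    have e2 : cj (j a) J = J := by
      apply cj_eq_of_mem_centralizer
      rw [mem_centralizer_iff]
      intro u hu
      rcases hae with h3 | h3
      · rw [h3, map_one, one_mul, mul_one]
      · rw [h3]; exact h.s_comm hu
    rw [ha, ← D3.cj_cj, e2] at e1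
    exact e1

/-- `t^x` for a lift `x` of an involution -/
theorem Good.conj_t (h : Good t j s e J) (hs : t * s = s * t) {x : G} {k : Perm α} (hx : x ∈ J)
    (hk : x * (t * x * t⁻¹) = j k) : x * t * x⁻¹ = (x * x) * (j k)⁻¹ * t := by
  have e1 := h.comm hs hx hx
  have e2 : t * x * t⁻¹ = x⁻¹ * j k := by rw [← hk]; group
  rw [e2] at e1
  -- x and j k commute
  have e3 : x * (j k)⁻¹ = (j k)⁻¹ * x := by
    have e4 : j k = x⁻¹ * j k * x := by rw [← e1]; group
    have e5 : x * j k = j k * x := by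
      calc x * j k = x * (x⁻¹ * j k * x) := by rw [← e4]
        _ = j k * x := by group
    rw [eq_inv_mul_iff_mul_eq, ← mul_assoc, ← e5, mul_assoc, mul_inv_cancel, mul_one]
  calc x * t * x⁻¹ = x * (t * x * t⁻¹)⁻¹ * t := by group
    _ = x * ((j k)⁻¹ * x) * t := by rw [e2]; group
    _ = (x * x) * (j k)⁻¹ * t := by rw [← e3]; group

/-- the pump-up hypothesis for `s = t j f` -/
def PumpT (t : G) (j : Perm α →* G) (f : Perm α) : Prop :=
  ∀ (g : G) (k : Perm α), g * (t * j f) = (t * j f) * g → k * k = 1 → Perm.Disjoint k f → 4 ≤ k.support.card →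
    g * t * g⁻¹ = t * j k →
    (∀ D : Subgroup G, Comp (t * j f) D → (∀ a, Perm.sign a = 1 → Perm.Disjoint a f → j a ∈ D) → cj g D = D) →
    ∃ J, Good t j (t * j f) f J

theorem supp_ne {k e a : Perm α} (hke : Perm.Disjoint k e) (hk : k ≠ 1) (h : a * e * a⁻¹ = k * e) : False := by
  have h1 : (a * e * a⁻¹).support.card = e.support.card := Perm.card_support_conj
  rw [h, hke.card_support_mul] at h1
  have h2 : k.support.card = 0 := by omega
  rw [Finset.card_eq_zero, Perm.support_eq_empty_iff] at h2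
  exact hk h2

/-- **NO SWAP** -/
theorem Good.noswap [Finite G] (F : Fr t j) (hcard : 9 ≤ Fintype.card α) (he : e.IsSwap) (hf : f.IsSwap)
    (hef : Perm.Disjoint e f) (h : Good t j (j e) e J) (hna : Good.NonAb e) (hP : PumpT t j f) :
    cj (j f) J = J := by
  by_contra hne
  have hs : t * j e = j e * t := F.comm e
  -- the swap
  have hsw : cj (j f) J = cj t J := by
    have h1 := h.conj F f
    have e1 : f * e * f⁻¹ = e := by rw [← hef.commute.eq]; group
    have e2 : j f * j e * (j f)⁻¹ = j e := by rw [← map_mul, ← map_inv, ← map_mul, e1]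
    rw [e1, e2] at h1
    exact (Good.uniq F hs hna h h1).resolve_left hne
  obtain ⟨q, hqe, hqf⟩ := exists_eight (by omega) he hf hef
  obtain ⟨x, hxX, hxk, hx4, hxc⟩ := h.exists_four hs q hqe hqf
  set k : Perm α := Em q (swap 4 5 * swap 6 7) with hk
  have hkk : k * k = 1 := by rw [hk, ← map_mul, p8_sq, map_one]
  have hkk' : j k * j k = 1 := by rw [← map_mul, hkk, map_one]
  have hki : (j k)⁻¹ = j k := inv_eq_of_mul_eq_one_left hkk'
  have hxJ := XS_le t j J e f hxX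
  have hke : Perm.Disjoint k e := by
    rw [hqe, hk]; apply disj_Em; unfold Perm.Disjoint; decide +kernel
  have hkf : Perm.Disjoint k f := by
    rw [hqf, hk]; apply disj_Em; unfold Perm.Disjoint; decide +kernel
  have hk1 : k ≠ 1 := by
    rw [hk]
    intro h1
    have h2 := Em_inj q (h1.trans (map_one _).symm)
    exact absurd h2 (by decide +kernel)
  -- `X` commutes with `t j f`
  have hXs : ∀ u ∈ XS t j J e f, u * (t * j f) = (t * j f) * u := by
    intro u hu
    refine (h.comm_XS hs (g := t * j f) ?_ ?_ ?_ u hu).symm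
    · rw [mul_assoc, ← F.comm]
    · rw [← D3.cj_cj, hsw, F.cj_cj]
    · intro ρ _ _ hρf
      have e1 : j f * j ρ = j ρ * j f := by rw [← map_mul, ← map_mul, hρf.commute.eq]
      rw [mul_assoc, e1, ← mul_assoc, F.comm, mul_assoc]
  have hxs := hXs x hxX
  have hxe : x * j e = j e * x := h.s_comm hxJ
  have hpx : (x * x) * (t * (x * x) * t⁻¹) = 1 := by
    have e1 : h.pr hs (⟨x, hxJ⟩ * ⟨x, hxJ⟩) = 1 := by
      have e2 : h.pr hs ⟨x, hxJ⟩ = j k := hxk
      rw [map_mul, e2, hkk']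
    exact e1
  have hxt := h.conj_t hs hxJ hxk
  rw [hki] at hxt
  rcases h.invol F (by omega) he (J.mul_mem hxJ hxJ) hpx hx4 with hx2 | hx2
  · -- `x² = 1`
    rw [hx2, one_mul] at hxt
    set c : Perm α := Em q (swap 0 2 * swap 1 3) with hc
    have hce : c * e * c⁻¹ = f := by
      rw [hc, hqe, hqf, ← map_inv, ← map_mul, ← map_mul, p8_sw1]
    have hck : c * k * c⁻¹ = k := by rw [hc, hk, ← map_inv, ← map_mul, ← map_mul, p8_sw3]
    have hcf : c * f * c⁻¹ = e := by rw [hc, hqe, hqf, ← map_inv, ← map_mul, ← map_mul, p8_sw2]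
    -- the conjugate
    set y : G := j c * x * (j c)⁻¹ with hy
    have hct : (j c)⁻¹ * t * j c = t := by
      rw [mul_assoc, F.comm]; group
    have hct' : j c * t * (j c)⁻¹ = t := by rw [← F.comm]; group
    have hyt : y * t * y⁻¹ = j k * t := by
      calc y * t * y⁻¹ = j c * (x * ((j c)⁻¹ * t * j c) * x⁻¹) * (j c)⁻¹ := by rw [hy]; group
        _ = j c * (j k * t) * (j c)⁻¹ := by rw [hct, hxt]
        _ = (j c * j k * (j c)⁻¹) * (j c * t * (j c)⁻¹) := by group
        _ = j k * t := by rw [hct', ← map_mul, ← map_inv, ← map_mul, hck]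
    have hys : y * (t * j e) * y⁻¹ = t * j e := by
      have e1 : (j c)⁻¹ * (t * j e) * j c = t * j f := by
        calc (j c)⁻¹ * (t * j e) * j c = ((j c)⁻¹ * t * j c) * ((j c)⁻¹ * j e * j c) := by group
          _ = t * j f := by
              rw [hct, ← hcf, map_mul, map_mul, map_inv]; group
      calc y * (t * j e) * y⁻¹ = j c * (x * ((j c)⁻¹ * (t * j e) * j c) * x⁻¹) * (j c)⁻¹ := by
            rw [hy]; group
        _ = j c * (t * j f) * (j c)⁻¹ := by
            rw [e1, hxs]; group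
        _ = (j c * t * (j c)⁻¹) * (j c * j f * (j c)⁻¹) := by group
        _ = t * j e := by rw [hct', ← map_mul, ← map_inv, ← map_mul, hcf]
    have hye : y * j e * y⁻¹ = j k * j e := by
      have e1 : j e = t * (t * j e) := by rw [← mul_assoc, F.tt, one_mul]
      calc y * j e * y⁻¹ = (y * t * y⁻¹) * (y * (t * j e) * y⁻¹) := by
            conv_lhs => rw [e1]
            group
        _ = j k * (t * (t * j e)) := by rw [hyt, hys]; group
        _ = j k * j e := by rw [← e1]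
    have hyk : y * j k * y⁻¹ = j k := by
      have e1 : j k = (y * t * y⁻¹) * t := by rw [hyt, mul_assoc, F.tt, mul_one]
      have e2 : y * (y * t * y⁻¹) * y⁻¹ = t := by
        -- `y² = 1`
        have e3 : y * y = 1 := by
          calc y * y = j c * (x * x) * (j c)⁻¹ := by rw [hy]; group
            _ = 1 := by rw [hx2]; group
        calc y * (y * t * y⁻¹) * y⁻¹ = (y * y) * t * (y * y)⁻¹ := by group
          _ = t := by rw [e3]; group
      calc y * j k * y⁻¹ = (y * (y * t * y⁻¹) * y⁻¹) * (y * t * y⁻¹) := by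
            conv_lhs => rw [e1]
            group
        _ = t * (j k * t) := by rw [e2, hyt]
        _ = j k := by rw [← mul_assoc, F.comm, mul_assoc, F.tt, mul_one]
    -- `m = y x` commutes with `t`
    have hmt : (y * x) * t = t * (y * x) := by
      have : (y * x) * t * (y * x)⁻¹ = t := by
        calc (y * x) * t * (y * x)⁻¹ = y * (x * t * x⁻¹) * y⁻¹ := by group
          _ = (y * j k * y⁻¹) * (y * t * y⁻¹) := by rw [hxt]; group
          _ = t := by rw [hyk, hyt, ← mul_assoc, hkk', one_mul]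
      calc (y * x) * t = (y * x) * t * (y * x)⁻¹ * (y * x) := by group
        _ = t * (y * x) := by rw [this]
    have hme : (y * x) * j e * (y * x)⁻¹ = j (k * e) := by
      calc (y * x) * j e * (y * x)⁻¹ = y * (x * j e * x⁻¹) * y⁻¹ := by group
        _ = y * j e * y⁻¹ := by rw [hxe]; group
        _ = j (k * e) := by rw [hye, map_mul]
    obtain ⟨a, ha⟩ := F.cent _ hmt
    have hae : j (a * e * a⁻¹) = j (k * e) := by
      rw [← hme]
      rcases ha with ha | ha
      · rw [ha, map_mul, map_mul, map_inv]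
      · rw [ha, map_mul, map_mul, map_inv]
        calc j a * j e * (j a)⁻¹ = j (a * e * a⁻¹) := by rw [map_mul, map_mul, map_inv]
          _ = t * j (a * e * a⁻¹) * t⁻¹ := (F.conj_t _).symm
          _ = t * j a * j e * (t * j a)⁻¹ := by rw [map_mul, map_mul, map_inv]; group
    exact supp_ne hke hk1 (F.inj hae)
  · -- `x² = j e`
    rw [hx2] at hxt
    have hs' : t * (t * j f) = (t * j f) * t := by rw [mul_assoc, ← F.comm]
    have hxt' : x * t * x⁻¹ = t * j (k * e) := by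
      rw [hxt, ← map_mul, ← F.comm, hke.commute.eq]
    have P : Per t j (t * j f) f (XS t j J e f) := by
      refine ⟨hXs, fun u hu v hv => h.comm hs (XS_le t j J e f hu) (XS_le t j J e f hv), ?_,
        h.perf_XS hs hcard he hf⟩
      intro u hu
      obtain ⟨a, h1, _, h3, h4⟩ := h.pr_XS hs u hu
      exact ⟨a, h1, h3, h4⟩
    have hcard4 : 4 ≤ (k * e).support.card := by
      rw [hke.card_support_mul]
      have h1 := Perm.two_le_card_support_of_ne_one hk1
      have h2 : e.support.card = 2 := Perm.card_support_eq_two.2 he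
      omega
    have hkek : (k * e) * (k * e) = 1 := by
      have hee : e * e = 1 := by
        obtain ⟨a, b, _, rfl⟩ := he
        exact swap_mul_self a b
      calc (k * e) * (k * e) = (k * e) * (e * k) := by rw [hke.commute.eq]
        _ = k * (e * e) * k := by group
        _ = 1 := by rw [hee, mul_one, hkk]
    obtain ⟨J', hJ'⟩ := hP x (k * e) hxs hkek (disj_mul hkf hef) hcard4 hxt' (by
      intro D hD hle
      exact (P.norS_le' (fun a ha haf L hL => cj_of_le hD hle ha haf hL) hxX).2 D hD)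
    have heX : j e ∈ XS t j J e f := by rw [← hx2]; exact mul_mem hxX hxX
    obtain ⟨b, hb, hbe⟩ := P.innS_le hJ' hs' heX
    obtain ⟨c, hc1, hcf, hc⟩ := hJ'.mem b hb
    -- `c⁻¹ e` centralises the even permutations outside of `f`
    have hce : c⁻¹ * e = 1 := by
      apply eq_one_of_comm (f := f) (by omega) hf ?_ (disj_mul (disj_inv hcf) hef)
      intro a ha haf
      obtain ⟨d, hd, hda⟩ := hJ'.ex a ha haf
      have e1 : j e * (t * d * t⁻¹) * (j e)⁻¹ = t * (j e * d * (j e)⁻¹) * t⁻¹ := by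
        calc j e * (t * d * t⁻¹) * (j e)⁻¹ = (j e * t) * d * (j e * t)⁻¹ := by group
          _ = t * (j e * d * (j e)⁻¹) * t⁻¹ := by rw [← F.comm]; group
      have e2 : (t * b * t⁻¹) * d = d * (t * b * t⁻¹) := (hJ'.comm hs' hd hb).symm
      have e3 : j e * j a * (j e)⁻¹ = j c * j a * (j c)⁻¹ := by
        calc j e * j a * (j e)⁻¹ = (j e * d * (j e)⁻¹) * (j e * (t * d * t⁻¹) * (j e)⁻¹) := by
              rw [← hda]; group
          _ = (b * d * b⁻¹) * (t * (b * d * b⁻¹) * t⁻¹) := by rw [e1, hbe d hd]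
          _ = b * d * (b⁻¹ * (t * b * t⁻¹)) * (t * d * t⁻¹) * (t * b * t⁻¹)⁻¹ := by group
          _ = b * d * ((t * b * t⁻¹) * b⁻¹) * (t * d * t⁻¹) * (t * b * t⁻¹)⁻¹ := by
              rw [hJ'.comm hs' (J'.inv_mem hb) hb]
          _ = b * (d * (t * b * t⁻¹)) * (b⁻¹ * (t * d * t⁻¹)) * (t * b * t⁻¹)⁻¹ := by group
          _ = b * ((t * b * t⁻¹) * d) * ((t * d * t⁻¹) * b⁻¹) * (t * b * t⁻¹)⁻¹ := by
              rw [e2, hJ'.comm hs' (J'.inv_mem hb) hd]
          _ = (b * (t * b * t⁻¹)) * (d * (t * d * t⁻¹)) * (b * (t * b * t⁻¹))⁻¹ := by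
              have e4 : (t * b * t⁻¹) * b = b * (t * b * t⁻¹) := (hJ'.comm hs' hb hb).symm
              calc b * ((t * b * t⁻¹) * d) * ((t * d * t⁻¹) * b⁻¹) * (t * b * t⁻¹)⁻¹
                  = (b * (t * b * t⁻¹)) * (d * (t * d * t⁻¹)) * ((t * b * t⁻¹) * b)⁻¹ := by group
                _ = _ := by rw [e4]
          _ = j c * j a * (j c)⁻¹ := by rw [hc, hda]
      apply F.inj
      simp only [map_mul, map_inv]
      calc (j c)⁻¹ * j e * j a = (j c)⁻¹ * (j e * j a * (j e)⁻¹) * j e := by group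
        _ = (j c)⁻¹ * (j c * j a * (j c)⁻¹) * j e := by rw [e3]
        _ = j a * ((j c)⁻¹ * j e) := by group
    have h9 : e = c := by rw [inv_mul_eq_one] at hce; exact hce.symm
    have h10 : Perm.sign e = -1 := he.sign_eq
    rw [h9, hc1] at h10
    exact absurd h10 (by decide)

end Cfsg.Agent.OddHalf.D5.SymLab
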