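import Cfsg.Agent.OddHalf.D5.SymLab.Inner
import Cfsg.Agent.OddHalf.D5.SymLab.PermAux

/-!
# The subgroup `X` of `J` generated by the lifts of the 3-cycles outside of `e` and `f`
-/

set_option autoImplicit false
set_option linter.unusedSectionVars false

namespace Cfsg.Agent.OddHalf.D5.SymLab

open Subgroup Equiv Cfsg Cfsg.Agent.OddHalf.D3
open scoped commutatorElement

variable {G : Type*} [Group G] {α : Type*} [Fintype α] [DecidableEq α]

theorem Good.lift_pow [Finite G] {t s : G} {j : Perm α →* G} {e : Perm α} {J : Subgroup G}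
    (h : Good t j s e J) (hs : t * s = s * t) {a : Perm α} {x d : G} (hx : Good.Lift t j J a x)
    (ha3 : a ^ 3 = 1) (hd : d ∈ J) (hda : d * (t * d * t⁻¹) = j a) : ∃ r : ℕ, x = d ^ r := by
  set D : J := ⟨d, hd⟩ with hD
  have hpr : h.pr hs D = j a := hda
  have h1 : h.pr hs (D ^ 3) = 1 := by rw [map_pow, hpr, ← map_pow, ha3, map_one]
  have hz : ∀ u ∈ J, (d ^ 3) * u = u * (d ^ 3) := fun u hu => h.central hs (J.pow_mem hd 3) h1 hu
  set m := orderOf (d ^ 3) with hm
  have hm0 : 0 < m := orderOf_pos _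
  have h3m : ¬ 3 ∣ m := by
    rintro ⟨k, hk⟩
    have hk0 : 0 < k := by omega
    have h4 : (d ^ 3) ^ k = 1 := by
      apply h.z3 _ (J.pow_mem (J.pow_mem hd 3) k)
      · intro u hu
        have : Commute (d ^ 3) u := hz u hu
        exact (this.pow_left k).eq
      · rw [← pow_mul, mul_comm k 3, ← hk, hm]
        exact pow_orderOf_eq_one _
    have h5 := orderOf_dvd_of_pow_eq_one h4
    rw [← hm, hk] at h5
    have := Nat.le_of_dvd hk0 h5
    omega
  have hco : Nat.Coprime 3 m := (Nat.Prime.coprime_iff_not_dvd Nat.prime_three).2 h3m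
  obtain ⟨r, hr1, hr2⟩ := Nat.chineseRemainder hco 1 0
  refine ⟨r, h.lift_unique hs hx ⟨J.pow_mem hd r, ?_, ?_⟩⟩
  · rw [← pow_mul, mul_comm, pow_mul]
    exact orderOf_dvd_iff_pow_eq_one.1 (by rw [← hm]; exact (Nat.modEq_zero_iff_dvd).1 hr2)
  · have h6 : h.pr hs (D ^ r) = j a := by
      rw [map_pow, hpr, ← map_pow]
      congr 1
      have : orderOf a ∣ 3 := orderOf_dvd_of_pow_eq_one ha3
      have h7 : r ≡ 1 [MOD orderOf a] := hr1.of_dvd this
      have h8 := pow_eq_pow_iff_modEq.2 h7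
      rw [h8, pow_one]
    exact h6

/-- the lifts of the 3-cycles outside of `e`, `f` -/
def liftSet (t : G) (j : Perm α →* G) (J : Subgroup G) (e f : Perm α) : Set G :=
  {x | ∃ ρ : Perm α, ρ.IsThreeCycle ∧ Perm.Disjoint ρ e ∧ Perm.Disjoint ρ f ∧ Good.Lift t j J ρ x}

/-- the group generated by them -/
def XS (t : G) (j : Perm α →* G) (J : Subgroup G) (e f : Perm α) : Subgroup G := closure (liftSet t j J e f)

variable {t s : G} {j : Perm α →* G} {e f : Perm α} {J : Subgroup G}

theorem three_cube {ρ : Perm α} (h : ρ.IsThreeCycle) : ρ ^ 3 = 1 := by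
  rw [← h.orderOf]; exact pow_orderOf_eq_one _

theorem XS_le (t : G) (j : Perm α →* G) (J : Subgroup G) (e f : Perm α) : XS t j J e f ≤ J := by
  unfold XS
  rw [closure_le]
  rintro x ⟨ρ, -, -, -, h⟩
  exact h.mem

/-- `g` normalises `J`, commutes with `t` and with the 3-cycles outside of `e`, `f`: it commutes with `X` -/
theorem Good.comm_XS (h : Good t j s e J) (hs : t * s = s * t) {g : G} (hgt : g * t = t * g)
    (hgJ : cj g J = J) (hg : ∀ ρ : Perm α, ρ.IsThreeCycle → Perm.Disjoint ρ e → Perm.Disjoint ρ f →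
      g * j ρ = j ρ * g) : ∀ x ∈ XS t j J e f, g * x = x * g := by
  intro x hx
  unfold XS at hx
  induction hx using closure_induction with
  | mem x hx =>
    obtain ⟨ρ, h1, h2, h3, h4⟩ := hx
    have h5 : g * x * g⁻¹ = x := by
      apply h.lift_unique hs (a := ρ) ?_ h4
      refine ⟨?_, ?_, ?_⟩
      · have := conj_mem_cj (g := g) h4.mem
        rwa [hgJ] at this
      · rw [conj_pow, h4.cube]; group
      · have e1 : t * (g * x * g⁻¹) * t⁻¹ = g * (t * x * t⁻¹) * g⁻¹ := by
          calc t * (g * x * g⁻¹) * t⁻¹ = (t * g) * x * (t * g)⁻¹ := by group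
            _ = g * (t * x * t⁻¹) * g⁻¹ := by rw [← hgt]; group
        rw [e1]
        calc g * x * g⁻¹ * (g * (t * x * t⁻¹) * g⁻¹) = g * (x * (t * x * t⁻¹)) * g⁻¹ := by group
          _ = j ρ := by rw [h4.eq, hg ρ h1 h2 h3]; group
    calc g * x = g * x * g⁻¹ * g := by group
      _ = x * g := by rw [h5]
  | one => rw [mul_one, one_mul]
  | mul x y _ _ hx hy => rw [← mul_assoc, hx, mul_assoc, hy, mul_assoc]
  | inv x _ hx =>
    rw [eq_inv_mul_iff_mul_eq, ← mul_assoc, ← hx, mul_assoc, mul_inv_cancel, mul_one]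

/-- three letters of a 3-cycle outside of `e`, `f`, with two more letters -/
theorem exists_five {ρ : Perm α} (hρ : ρ.IsThreeCycle) (hcard : 9 ≤ Fintype.card α) (he : e.IsSwap)
    (hf : f.IsSwap) (hρe : Perm.Disjoint ρ e) (hρf : Perm.Disjoint ρ f) :
    ∃ q : Fin 5 ↪ α, ρ = Em q (c3 0 1 2) ∧ ∀ i, e (q i) = q i ∧ f (q i) = q i := by
  obtain ⟨a, b, hab, rfl⟩ := he
  obtain ⟨c, d, hcd, rfl⟩ := hf
  have hne : ρ ≠ 1 := hρ.ne_one
  obtain ⟨x, hx⟩ : ∃ x, ρ x ≠ x := by
    by_contra hcon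
    push Not at hcon
    exact hne (Perm.ext hcon)
  have hxs : x ∈ ρ.support := Perm.mem_support.2 hx
  have h1 := hρ.eq_swap_mul_swap_iff_mem_support.2 hxs
  have h2 := hρ.nodup_iff_mem_support.2 hxs
  set y := ρ x with hy
  set z := ρ y with hz
  have hxy : x ≠ y := by simp at h2; exact h2.1.1
  have hxz : x ≠ z := by simp at h2; exact h2.1.2
  have hyz : y ≠ z := by simp at h2; exact h2.2
  have hmy : ρ y ≠ y := hyz.symm
  have hmz : ρ z ≠ z := fun h => hyz (ρ.injective (by rw [h]))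
  obtain ⟨u, hu⟩ := exists_new {a, b, c, d, x, y, z} (by
    have : ({a, b, c, d, x, y, z} : Finset α).card ≤ 7 := by
      refine le_trans (Finset.card_insert_le _ _) ?_
      have : ({b, c, d, x, y, z} : Finset α).card ≤ 6 := Finset.card_le_six
      omega
    omega)
  obtain ⟨v, hv⟩ := exists_new {a, b, c, d, x, y, z, u} (by
    have : ({a, b, c, d, x, y, z, u} : Finset α).card ≤ 8 := by
      refine le_trans (Finset.card_insert_le _ _) ?_
      refine le_trans (Nat.add_le_add_right (Finset.card_insert_le _ _) 1) ?_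
      have : ({c, d, x, y, z, u} : Finset α).card ≤ 6 := Finset.card_le_six
      omega
    omega)
  simp only [Finset.mem_insert, Finset.mem_singleton, not_or] at hu hv
  obtain ⟨hua, hub, huc, hud, hux, huy, huz⟩ := hu
  obtain ⟨hva, hvb, hvc, hvd, hvx, hvy, hvz, hvu⟩ := hv
  have hfix : ∀ w, ρ w ≠ w → swap a b w = w ∧ swap c d w = w := fun w hw =>
    ⟨(hρe w).resolve_left hw, (hρf w).resolve_left hw⟩
  -- order `(y, x, z)`: `c3 y x z = swap y x * swap y z`
  let p : Fin 5 → α := ![y, x, z, u, v]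
  have hp : Function.Injective p := by
    intro i k hik
    fin_cases i <;> fin_cases k <;> simp [p] at hik ⊢ <;> first | exact hik | (exfalso; first
      | exact hxy hik | exact hxy hik.symm | exact hxz hik | exact hxz hik.symm | exact hyz hik
      | exact hyz hik.symm | exact hux hik | exact hux hik.symm | exact huy hik | exact huy hik.symm
      | exact huz hik | exact huz hik.symm | exact hvx hik | exact hvx hik.symm | exact hvy hik
      | exact hvy hik.symm | exact hvz hik | exact hvz hik.symm | exact hvu hik | exact hvu hik.symm)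
  refine ⟨⟨p, hp⟩, ?_, ?_⟩
  · rw [Em_c3]
    show ρ = c3 y x z
    unfold c3
    rw [swap_comm y x]
    exact h1
  · intro i
    fin_cases i
    · exact hfix y hmy
    · exact hfix x hx
    · exact hfix z hmz
    · exact ⟨swap_apply_of_ne_of_ne hua hub, swap_apply_of_ne_of_ne huc hud⟩
    · exact ⟨swap_apply_of_ne_of_ne hva hvb, swap_apply_of_ne_of_ne hvc hvd⟩

/-- permutations of letters fixed by `f` are disjoint from `f` -/
theorem Em_disj {m : ℕ} (q : Fin m ↪ α) (h : ∀ i, f (q i) = q i) (u : Perm (Fin m)) :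
    Perm.Disjoint (Em q u) f := by
  intro x
  by_cases hx : ∃ l, x = q l
  · obtain ⟨l, rfl⟩ := hx
    right; exact h l
  · push Not at hx
    left; exact Em_out q _ hx

theorem Em_three {m : ℕ} (q : Fin m ↪ α) {u : Perm (Fin m)} (h : u.IsThreeCycle) : (Em q u).IsThreeCycle := by
  let _ : DecidablePred (fun x => x ∈ Set.range q) := fun _ => Classical.propDecidable _
  have h2 := Perm.cycleType_extendDomain (g := u) (Equiv.ofInjective q q.injective)
  unfold Perm.IsThreeCycle at h ⊢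
  rw [← h, ← h2]
  rfl

theorem three_c3 {x y z : α} (h1 : x ≠ y) (h2 : x ≠ z) (h3 : y ≠ z) : (c3 x y z).IsThreeCycle :=
  Perm.isThreeCycle_swap_mul_swap_same h1 h2 h3

theorem comm5 : ⁅(c3 0 1 3 : Perm (Fin 5)), (c3 1 4 2 : Perm (Fin 5))⁆ = c3 0 1 2 := by
  rw [commutatorElement_def]
  unfold c3
  decide +kernel

/-- `X` is perfect -/
theorem Good.perf_XS [Finite G] (h : Good t j s e J) (hs : t * s = s * t) (hcard : 9 ≤ Fintype.card α)
    (he : e.IsSwap) (hf : f.IsSwap) : ⁅XS t j J e f, XS t j J e f⁆ = XS t j J e f := by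
  apply le_antisymm (commutator_le_self _)
  conv_lhs => unfold XS
  rw [closure_le]
  rintro x ⟨ρ, h1, h2, h3, h4⟩
  obtain ⟨q, hq, hqf⟩ := exists_five h1 hcard he hf h2 h3
  have key : ∀ u : Perm (Fin 5), u.IsThreeCycle → ∃ y ∈ XS t j J e f, y * (t * y * t⁻¹) = j (Em q u) := by
    intro u hu
    have hu' := Em_three q hu
    obtain ⟨y, hy⟩ := h.exists_lift hs (a := Em q u) (Perm.IsThreeCycle.sign hu')
      (Em_disj q (fun i => (hqf i).1) u) (three_cube hu')
    exact ⟨y, subset_closure ⟨_, hu', Em_disj q (fun i => (hqf i).1) u,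
      Em_disj q (fun i => (hqf i).2) u, hy⟩, hy.eq⟩
  obtain ⟨y, hy, hy1⟩ := key (c3 0 1 3) (three_c3 (by decide) (by decide) (by decide))
  obtain ⟨z, hz, hz1⟩ := key (c3 1 4 2) (three_c3 (by decide) (by decide) (by decide))
  have hyJ := XS_le t j J e f hy
  have hzJ := XS_le t j J e f hz
  set Y : J := ⟨y, hyJ⟩ with hY
  set Z : J := ⟨z, hzJ⟩ with hZ
  have h5 : h.pr hs ⁅Y, Z⁆ = j ρ := by
    rw [map_commutatorElement, pr_apply, pr_apply]
    show ⁅y * (t * y * t⁻¹), z * (t * z * t⁻¹)⁆ = j ρ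
    rw [hy1, hz1, ← map_commutatorElement, ← map_commutatorElement, hq, comm5]
  obtain ⟨r, hr⟩ := h.lift_pow hs h4 (three_cube h1) (d := ⁅y, z⁆) (⁅Y, Z⁆ : J).2 h5
  rw [hr]
  exact pow_mem (commutator_mem_commutator hy hz) r

end Cfsg.Agent.OddHalf.D5.SymLab
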